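import Groth.Agent.Lib.Chow.PointMap
import Mathlib.AlgebraicGeometry.Morphisms.FiniteType
import Mathlib.AlgebraicGeometry.Morphisms.ClosedImmersion

/-!
# Embedding an affine piece in projective space over the base

An affine open `V` of `X` over an affine open of `S` is closed in an open `O` of `P^m_S` that avoids a section.
-/

noncomputable section

universe u

open CategoryTheory CategoryTheory.Limits AlgebraicGeometry MvPolynomial HomogeneousLocalization TopologicalSpace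

namespace Groth.Agent.Lib.Chow.Embed

open Groth.Agent.Lib.ProjSpace.Charts Groth.Agent.Lib.ProjSpace.Basic PointMap

/-- The coordinates `[0 : 1 : 0 : … : 0]`. -/
def inftyTuple (m : ℕ) {B : Type*} [Zero B] [One B] : Fin (m + 1 + 1) → B := fun l => if l = 1 then 1 else 0

/-- The section `[0 : 1 : 0 : … : 0]`. -/
def ptInfty (m : ℕ) {W S : Scheme.{u}} (g : W ⟶ S) : W ⟶ CohB1.ProjSpaceOver (m + 1) S :=
  pullback.lift (chartPt 1 (inftyTuple m)) g (specULiftZIsTerminal.hom_ext _ _)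

theorem ptInfty_toBase (m : ℕ) {W S : Scheme.{u}} (g : W ⟶ S) :
    ptInfty m g ≫ CohB1.ProjSpaceOver.toBase (m + 1) S = g :=
  pullback.lift_snd _ _ _

theorem ptInfty_preimage (m : ℕ) {W S : Scheme.{u}} (g : W ⟶ S) :
    ptInfty m g ⁻¹ᵁ (pullback.fst (CohB1.ProjSpace.toSpec (m + 1) Z.{u}) (specULiftZIsTerminal.from S) ⁻¹ᵁ
      Proj.basicOpen (CohB1.polyGrading (m + 1) Z.{u}) (X 0)) = ⊥ := by
  have h : ptInfty m g ≫ pullback.fst (CohB1.ProjSpace.toSpec (m + 1) Z.{u}) (specULiftZIsTerminal.from S) =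
      chartPt 1 (inftyTuple m) := pullback.lift_fst _ _ _
  rw [← Scheme.Hom.comp_preimage, h, chartPt_preimage_basicOpen (by simp [inftyTuple]),
    show (inftyTuple m (0 : Fin (m + 1 + 1)) : Γ(W, ⊤)) = 0 by simp [inftyTuple]]
  exact W.basicOpen_zero _

theorem exists_embed {X S : Scheme.{u}} (f : X ⟶ S) [LocallyOfFiniteType f] (V : X.Opens) (hV : IsAffineOpen V)
    (T : S.Opens) (hT : IsAffineOpen T) (h : V ≤ f ⁻¹ᵁ T) :
    ∃ (m : ℕ) (O : (CohB1.ProjSpaceOver (m + 1) S).Opens) (c : (V : Scheme.{u}) ⟶ (O : Scheme.{u})),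
      IsClosedImmersion c ∧ c ≫ O.ι ≫ CohB1.ProjSpaceOver.toBase (m + 1) S = V.ι ≫ f ∧
        ∀ (W : Scheme.{u}) (g : W ⟶ S), ptInfty m g ⁻¹ᵁ O = ⊥ := by
  classical
  haveI : IsAffine (V : Scheme.{u}) := hV
  haveI : IsAffine (T : Scheme.{u}) := hT
  let c2 : (V : Scheme.{u}) ⟶ (T : Scheme.{u}) := f.resLE T V h
  have hc2 : c2 ≫ T.ι = V.ι ≫ f := Scheme.Hom.resLE_comp_ι f h
  haveI : LocallyOfFiniteType (c2 ≫ T.ι) := by rw [hc2]; infer_instance
  haveI : LocallyOfFiniteType c2 := locallyOfFiniteType_of_comp c2 T.ι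
  have hft : c2.appTop.hom.FiniteType := (HasRingHomProperty.iff_of_isAffine (P := @LocallyOfFiniteType)).1 ‹_›
  algebraize [c2.appTop.hom]
  obtain ⟨s, hs⟩ := hft.out
  let b : Fin s.card → Γ(V, ⊤) := fun j => (s.equivFin.symm j).1
  let m := s.card
  let v : Fin (m + 1 + 1) → Γ(V, ⊤) := Fin.cons 1 (Fin.snoc b 0)
  have hv : v 0 = 1 := Fin.cons_zero _ _
  let A : Scheme.{u} := Spec (CommRingCat.of (AwayX Z.{u} (0 : Fin (m + 1 + 1))))
  let a : A ⟶ Spec (CommRingCat.of Z.{u}) := awayχ Z.{u} 0 ≫ CohB1.ProjSpace.toSpec (m + 1) Z.{u}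
  let t : (T : Scheme.{u}) ⟶ Spec (CommRingCat.of Z.{u}) := T.ι ≫ specULiftZIsTerminal.from S
  let Wp := pullback a t
  let μ : Wp ⟶ CohB1.ProjSpaceOver (m + 1) S :=
    pullback.map a t (CohB1.ProjSpace.toSpec (m + 1) Z.{u}) (specULiftZIsTerminal.from S) (awayχ Z.{u} 0) T.ι (𝟙 _)
      (Category.comp_id _) (Category.comp_id _)
  haveI : IsOpenImmersion μ := by
    haveI : IsOpenImmersion (awayχ (n := m + 1) Z.{u} 0) := isOpenImmersion_awayχ _ _
    exact Scheme.pullback_map_isOpenImmersion _ _ _ _ _ _ _ _ _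
  let c1 : (V : Scheme.{u}) ⟶ A := toSpecHom (ptHom 0 v)
  let c0 : (V : Scheme.{u}) ⟶ Wp := pullback.lift c1 c2 (specULiftZIsTerminal.hom_ext _ _)
  haveI : IsAffine Wp := inferInstanceAs (IsAffine (pullback a t))
  haveI : IsClosedImmersion c0 := by
    refine IsClosedImmersion.of_surjective_of_isAffine c0 fun x => ?_
    show x ∈ c0.appTop.hom.range
    have h2 : ∀ y, c2.appTop y ∈ c0.appTop.hom.range := fun y => by
      refine ⟨(pullback.snd a t).appTop y, ?_⟩
      rw [← CommRingCat.comp_apply, ← Scheme.Hom.comp_appTop, pullback.lift_snd]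
    have h1 : ∀ j, b j ∈ c0.appTop.hom.range := fun j => by
      refine ⟨(pullback.fst a t).appTop
        ((Scheme.ΓSpecIso (CommRingCat.of (AwayX Z.{u} (0 : Fin (m + 1 + 1))))).inv
          (coord Z.{u} 0 j.castSucc.succ)), ?_⟩
      rw [← CommRingCat.comp_apply, ← Scheme.Hom.comp_appTop, pullback.lift_fst]
      show homOf c1 _ = _
      rw [homOf_toSpecHom, ptHom_coord hv]
      simp [v]
    have hx : x ∈ Algebra.adjoin Γ(T, ⊤) (s : Set Γ(V, ⊤)) := hs ▸ Algebra.mem_top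
    induction hx using Algebra.adjoin_induction with
    | mem y hy =>
      have := h1 (s.equivFin ⟨y, hy⟩)
      simpa [b] using this
    | algebraMap r => exact h2 r
    | add y z _ _ hy hz => exact Subring.add_mem _ hy hz
    | mul y z _ _ hy hz => exact Subring.mul_mem _ hy hz
  refine ⟨m, μ.opensRange, c0 ≫ μ.isoOpensRange.hom, inferInstance, ?_, fun W g => ?_⟩
  · have hμ : μ.isoOpensRange.hom ≫ μ.opensRange.ι = μ := Scheme.Hom.isoOpensRange_hom_ι μ
    rw [Category.assoc, reassoc_of% hμ, show μ ≫ CohB1.ProjSpaceOver.toBase (m + 1) S = pullback.snd a t ≫ T.ι from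
      pullback.lift_snd _ _ _, ← Category.assoc, pullback.lift_snd, hc2]
  · refine eq_bot_iff.2 (le_trans ?_ (ptInfty_preimage m g).le)
    intro y hy
    obtain ⟨w, hw⟩ : ptInfty m g y ∈ Set.range μ := hy
    have e : μ ≫ pullback.fst _ _ = pullback.fst a t ≫ awayχ Z.{u} 0 := pullback.lift_fst _ _ _
    show pullback.fst (CohB1.ProjSpace.toSpec (m + 1) Z.{u}) _ (ptInfty m g y) ∈
      Proj.basicOpen (CohB1.polyGrading (m + 1) Z.{u}) (MvPolynomial.X 0)
    rw [← hw]
    have e' : pullback.fst (CohB1.ProjSpace.toSpec (m + 1) Z.{u}) (specULiftZIsTerminal.from S) (μ w) =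
        awayχ Z.{u} 0 (pullback.fst a t w) :=
      congrArg (fun (φ : Wp ⟶ CohB1.ProjSpace (m + 1) Z.{u}) => φ w) e
    erw [e']
    have h3 : awayχ Z.{u} 0 (pullback.fst a t w) ∈ (awayχ (n := m + 1) Z.{u} 0).opensRange := ⟨_, rfl⟩
    rwa [opensRange_awayχ] at h3

end Groth.Agent.Lib.Chow.Embed
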