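import Groth.Agent.Lib.Chow.PointMap
import Mathlib.AlgebraicGeometry.ZariskisMainTheorem

/-!
# The Segre embedding

`segre a b : P^a_ℤ × P^b_ℤ ⟶ P^{ab+a+b}_ℤ` glued from chart pairs; it is a proper monomorphism, hence a closed
immersion; `segreOver` is its base change to any scheme.
-/

noncomputable section

universe u

open CategoryTheory CategoryTheory.Limits AlgebraicGeometry MvPolynomial HomogeneousLocalization TopologicalSpace

namespace Groth.Agent.Lib.Chow.Segre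

open Groth.Agent.Lib.ProjSpace.Charts Groth.Agent.Lib.ProjSpace.Basic PointMap

variable {n : ℕ}

/-- `g` has coordinates `u` in the chart `i`. -/
def IsPt {T : Scheme.{u}} (g : T ⟶ CohB1.ProjSpace n Z.{u}) (i : Fin (n + 1))
    (v : Fin (n + 1) → Γ(T, ⊤)) : Prop :=
  v i = 1 ∧ g = chartPt i v

theorem exists_isPt {T : Scheme.{u}} (g : T ⟶ CohB1.ProjSpace n Z.{u}) (i : Fin (n + 1))
    (h : ∀ t, g t ∈ Proj.basicOpen (CohB1.polyGrading n Z.{u}) (X i)) : ∃ v, IsPt g i v := by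
  have hr : Set.range g ⊆ Set.range (awayχ Z.{u} i) := by
    rintro _ ⟨t, rfl⟩
    rw [← Scheme.Hom.coe_opensRange, opensRange_awayχ]
    exact h t
  let l := IsOpenImmersion.lift (awayχ Z.{u} i) g hr
  refine ⟨fun l' => homOf l (coord Z.{u} i l'), by show homOf l _ = 1; rw [coord_self, map_one], ?_⟩
  rw [chartPt, ← eq_ptHom, toSpecHom_homOf]
  exact (IsOpenImmersion.lift_fac _ _ hr).symm

theorem IsPt.comp {T T' : Scheme.{u}} {g : T ⟶ CohB1.ProjSpace n Z.{u}} {i : Fin (n + 1)}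
    {v : Fin (n + 1) → Γ(T, ⊤)} (h : IsPt g i v) (k : T' ⟶ T) : IsPt (k ≫ g) i fun l => k.appTop (v l) := by
  refine ⟨by simp only [h.1, map_one], ?_⟩
  rw [h.2, chartPt, chartPt, ← Category.assoc, comp_toSpecHom]
  congr 2
  refine awayHom_ext fun l => ?_
  rw [RingHom.comp_apply, ptHom_coord h.1, ptHom_coord (show k.appTop (v i) = 1 by rw [h.1, map_one])]

theorem IsPt.rel {T : Scheme.{u}} {g : T ⟶ CohB1.ProjSpace n Z.{u}} {i i' : Fin (n + 1)}
    {v v' : Fin (n + 1) → Γ(T, ⊤)} (h : IsPt g i v) (h' : IsPt g i' v') (l : Fin (n + 1)) :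
    v' l = v' i * v l :=
  (chartPt_eq_iff h.1 h'.1).1 (h.2.symm.trans h'.2) l

theorem IsPt.preimage {T : Scheme.{u}} {g : T ⟶ CohB1.ProjSpace n Z.{u}} {i : Fin (n + 1)}
    {v : Fin (n + 1) → Γ(T, ⊤)} (h : IsPt g i v) (l : Fin (n + 1)) :
    g ⁻¹ᵁ Proj.basicOpen (CohB1.polyGrading n Z.{u}) (X l) = T.basicOpen (v l) := by
  rw [h.2]; exact chartPt_preimage_basicOpen h.1 l

variable (a b : ℕ)

/-- The numbering of the Segre coordinates. -/
def idx : Fin (a + 1) × Fin (b + 1) ≃ Fin (a * b + a + b + 1) :=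
  finProdFinEquiv.trans (finCongr (by ring))

/-- The Segre tuple. -/
def prodTuple {B : Type*} [Mul B] (v : Fin (a + 1) → B) (w : Fin (b + 1) → B) (m : Fin (a * b + a + b + 1)) : B :=
  v ((idx a b).symm m).1 * w ((idx a b).symm m).2

theorem prodTuple_idx {B : Type*} [Mul B] (v : Fin (a + 1) → B) (w : Fin (b + 1) → B) (i : Fin (a + 1))
    (j : Fin (b + 1)) : prodTuple a b v w (idx a b (i, j)) = v i * w j := by
  simp [prodTuple]

/-- `P^a_ℤ × P^b_ℤ`. -/
abbrev PP : Scheme.{u} :=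
  pullback (CohB1.ProjSpace.toSpec a Z.{u}) (CohB1.ProjSpace.toSpec b Z.{u})

/-- The product of two standard opens. -/
def V (p : Fin (a + 1) × Fin (b + 1)) : (PP.{u} a b).Opens :=
  pullback.fst (CohB1.ProjSpace.toSpec a Z.{u}) (CohB1.ProjSpace.toSpec b Z.{u}) ⁻¹ᵁ Proj.basicOpen (CohB1.polyGrading a Z.{u}) (X p.1) ⊓
    pullback.snd (CohB1.ProjSpace.toSpec a Z.{u}) (CohB1.ProjSpace.toSpec b Z.{u}) ⁻¹ᵁ Proj.basicOpen (CohB1.polyGrading b Z.{u}) (X p.2)

theorem mem_V {p : Fin (a + 1) × Fin (b + 1)} {x : (PP.{u} a b : Scheme.{u})} :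
    x ∈ V a b p ↔ pullback.fst (CohB1.ProjSpace.toSpec a Z.{u}) (CohB1.ProjSpace.toSpec b Z.{u}) x ∈ Proj.basicOpen (CohB1.polyGrading a Z.{u}) (X p.1) ∧
      pullback.snd (CohB1.ProjSpace.toSpec a Z.{u}) (CohB1.ProjSpace.toSpec b Z.{u}) x ∈ Proj.basicOpen (CohB1.polyGrading b Z.{u}) (X p.2) :=
  Iff.rfl

theorem isOpenCover_V : TopologicalSpace.IsOpenCover (V.{u} a b) := by
  refine top_le_iff.1 fun x _ => ?_
  obtain ⟨i, hi⟩ := Opens.mem_iSup.1 ((iSup_basicOpen_X_eq_top a Z.{u}).ge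
    (Opens.mem_top (pullback.fst (CohB1.ProjSpace.toSpec a Z.{u}) (CohB1.ProjSpace.toSpec b Z.{u}) x)))
  obtain ⟨j, hj⟩ := Opens.mem_iSup.1 ((iSup_basicOpen_X_eq_top b Z.{u}).ge
    (Opens.mem_top (pullback.snd (CohB1.ProjSpace.toSpec a Z.{u}) (CohB1.ProjSpace.toSpec b Z.{u}) x)))
  exact Opens.mem_iSup.2 ⟨(i, j), (mem_V a b).2 ⟨hi, hj⟩⟩

theorem exists_coords {T : Scheme.{u}} (g : T ⟶ PP.{u} a b) (p : Fin (a + 1) × Fin (b + 1))
    (h : ∀ t, g t ∈ V a b p) :
    ∃ v w, IsPt (g ≫ pullback.fst _ _) p.1 v ∧ IsPt (g ≫ pullback.snd _ _) p.2 w := by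
  obtain ⟨v, hv⟩ := exists_isPt (g ≫ pullback.fst _ _) p.1 fun t => ((mem_V a b).1 (h t)).1
  obtain ⟨w, hw⟩ := exists_isPt (g ≫ pullback.snd _ _) p.2 fun t => ((mem_V a b).1 (h t)).2
  exact ⟨v, w, hv, hw⟩

/-- `φ` has the Segre coordinates on every chart pair. -/
def IsSegre (φ : PP.{u} a b ⟶ CohB1.ProjSpace (a * b + a + b) Z.{u}) : Prop :=
  ∀ (T : Scheme.{u}) (g : T ⟶ PP.{u} a b) (i : Fin (a + 1)) (j : Fin (b + 1)) (v : Fin (a + 1) → Γ(T, ⊤))
    (w : Fin (b + 1) → Γ(T, ⊤)), IsPt (g ≫ pullback.fst _ _) i v → IsPt (g ≫ pullback.snd _ _) j w →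
      IsPt (g ≫ φ) (idx a b (i, j)) (prodTuple a b v w)

theorem chartPt_prodTuple_eq {T : Scheme.{u}} {g : T ⟶ PP.{u} a b} {i i' : Fin (a + 1)} {j j' : Fin (b + 1)}
    {v v' : Fin (a + 1) → Γ(T, ⊤)} {w w' : Fin (b + 1) → Γ(T, ⊤)}
    (hv : IsPt (g ≫ pullback.fst _ _) i v) (hw : IsPt (g ≫ pullback.snd _ _) j w)
    (hv' : IsPt (g ≫ pullback.fst _ _) i' v') (hw' : IsPt (g ≫ pullback.snd _ _) j' w') :
    chartPt (idx a b (i, j)) (prodTuple a b v w) = chartPt (idx a b (i', j')) (prodTuple a b v' w') := by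
  rw [chartPt_eq_iff (by rw [prodTuple_idx, hv.1, hw.1, one_mul]) (by rw [prodTuple_idx, hv'.1, hw'.1, one_mul])]
  intro m
  rw [prodTuple_idx, prodTuple, prodTuple, hv.rel hv', hw.rel hw']
  ring

theorem exists_segre : ∃ φ, IsSegre.{u} a b φ := by
  have hc := fun p : Fin (a + 1) × Fin (b + 1) => exists_coords a b (V.{u} a b p).ι p fun t => t.2
  choose v w hv hw using hc
  let 𝒰 := (PP.{u} a b).openCoverOfIsOpenCover (V a b) (isOpenCover_V a b)
  let f : ∀ p : 𝒰.I₀, 𝒰.X p ⟶ CohB1.ProjSpace (a * b + a + b) Z.{u} := fun p =>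
    chartPt (idx a b p) (prodTuple a b (v p) (w p))
  have hpt : ∀ (T : Scheme.{u}) (p : 𝒰.I₀) (k : T ⟶ 𝒰.X p),
      IsPt (k ≫ f p) (idx a b p) (prodTuple a b (fun l => k.appTop (v p l)) fun l => k.appTop (w p l)) := by
    intro T p k
    have h0 : IsPt (f p) (idx a b p) (prodTuple a b (v p) (w p)) :=
      ⟨(prodTuple_idx a b (v p) (w p) p.1 p.2).trans ((congrArg₂ (· * ·) (hv p).1 (hw p).1).trans (one_mul 1)), rfl⟩
    have h := h0.comp k
    convert h using 1
    funext m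
    exact (map_mul _ _ _).symm
  have hglue : ∀ p q : 𝒰.I₀, pullback.fst (𝒰.f p) (𝒰.f q) ≫ f p = pullback.snd (𝒰.f p) (𝒰.f q) ≫ f q := by
    intro p q
    rw [(hpt _ p _).2, (hpt _ q _).2]
    refine chartPt_prodTuple_eq a b (g := pullback.fst (𝒰.f p) (𝒰.f q) ≫ 𝒰.f p) ?_ ?_ ?_ ?_
    · rw [Category.assoc]; exact (hv p).comp _
    · rw [Category.assoc]; exact (hw p).comp _
    · rw [pullback.condition, Category.assoc]; exact (hv q).comp _
    · rw [pullback.condition, Category.assoc]; exact (hw q).comp _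
  refine ⟨𝒰.glueMorphisms f hglue, fun T g i j v' w' hv' hw' => ?_⟩
  have h1 : prodTuple a b v' w' (idx a b (i, j)) = 1 := by rw [prodTuple_idx, hv'.1, hw'.1, one_mul]
  have hg : ∀ t, g t ∈ V a b (i, j) := by
    intro t
    have e1 : t ∈ T.basicOpen (v' i) := by rw [hv'.1]; simp
    have e2 : t ∈ T.basicOpen (w' j) := by rw [hw'.1]; simp
    rw [← hv'.preimage] at e1
    rw [← hw'.preimage] at e2
    exact (mem_V a b).2 ⟨e1, e2⟩
  have hr : Set.range g ⊆ Set.range (V.{u} a b (i, j)).ι := by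
    rw [Scheme.Opens.range_ι]; rintro _ ⟨t, rfl⟩; exact hg t
  let k : T ⟶ 𝒰.X (i, j) := IsOpenImmersion.lift (𝒰.f (i, j)) g hr
  have hk : k ≫ 𝒰.f (i, j) = g := IsOpenImmersion.lift_fac (𝒰.f (i, j)) g hr
  refine ⟨h1, ?_⟩
  have hσ : g ≫ 𝒰.glueMorphisms f hglue = k ≫ f (i, j) := by
    rw [← hk, Category.assoc, 𝒰.ι_glueMorphisms]
  rw [hσ, (hpt _ (i, j) k).2]
  refine chartPt_prodTuple_eq a b (g := g) ?_ ?_ hv' hw'
  · rw [← hk, Category.assoc]; exact (hv (i, j)).comp k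
  · rw [← hk, Category.assoc]; exact (hw (i, j)).comp k

/-- The Segre morphism over `ℤ`. -/
def segre : PP.{u} a b ⟶ CohB1.ProjSpace (a * b + a + b) Z.{u} := (exists_segre a b).choose

theorem isSegre_segre : IsSegre.{u} a b (segre a b) := (exists_segre a b).choose_spec

theorem segre_preimage (i : Fin (a + 1)) (j : Fin (b + 1)) :
    segre.{u} a b ⁻¹ᵁ Proj.basicOpen (CohB1.polyGrading (a * b + a + b) Z.{u}) (X (idx a b (i, j))) =
      V a b (i, j) := by
  ext x
  obtain ⟨⟨i', j'⟩, hx⟩ := Opens.mem_iSup.1 ((isOpenCover_V.{u} a b).ge (Opens.mem_top x))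
  let O := V.{u} a b (i', j')
  obtain ⟨v, w, hv, hw⟩ := exists_coords a b O.ι (i', j') fun t => t.2
  let x' : (O : Scheme.{u}) := ⟨x, hx⟩
  have hseg := (isSegre_segre a b _ O.ι i' j' v w hv hw).preimage (idx a b (i, j))
  rw [prodTuple_idx, Scheme.basicOpen_mul, ← hv.preimage i, ← hw.preimage j] at hseg
  have e := SetLike.ext_iff.1 hseg x'
  show segre a b x ∈ Proj.basicOpen _ (X (idx a b (i, j))) ↔ x ∈ V a b (i, j)
  exact e.trans (mem_V a b (p := (i, j))).symm

instance mono_segre : Mono (segre.{u} a b) := by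
  refine ⟨fun {T} g g' h => ?_⟩
  let W : Fin (a + 1) × Fin (b + 1) → T.Opens := fun p => g ⁻¹ᵁ V a b p
  have hW : TopologicalSpace.IsOpenCover W := by
    refine top_le_iff.1 fun t _ => ?_
    obtain ⟨p, hp⟩ := Opens.mem_iSup.1 ((isOpenCover_V.{u} a b).ge (Opens.mem_top (g t)))
    exact Opens.mem_iSup.2 ⟨p, hp⟩
  refine Scheme.Cover.hom_ext (T.openCoverOfIsOpenCover W hW) _ _ fun p => ?_
  obtain ⟨i, j⟩ := p
  show (W (i, j)).ι ≫ g = (W (i, j)).ι ≫ g'
  obtain ⟨v, w, hv, hw⟩ := exists_coords a b ((W (i, j)).ι ≫ g) (i, j) fun t => t.2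
  have hg' : ∀ t, ((W (i, j)).ι ≫ g') t ∈ V a b (i, j) := fun t => by
    rw [← segre_preimage]
    change segre a b (g' ((W (i, j)).ι t)) ∈ Proj.basicOpen _ (X (idx a b (i, j)))
    rw [← Scheme.Hom.comp_apply, ← h, Scheme.Hom.comp_apply]
    have ht : g ((W (i, j)).ι t) ∈ V a b (i, j) := t.2
    rw [← segre_preimage] at ht
    exact ht
  obtain ⟨v', w', hv', hw'⟩ := exists_coords a b ((W (i, j)).ι ≫ g') (i, j) hg'
  have e1 := isSegre_segre a b _ _ i j v w hv hw
  have e2 := isSegre_segre a b _ _ i j v' w' hv' hw'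
  rw [Category.assoc] at e1 e2
  rw [← h] at e2
  have hrel := e1.rel e2
  have hone : prodTuple a b v' w' (idx a b (i, j)) = 1 := e2.1
  have hvv : v = v' := funext fun l => by
    have := hrel (idx a b (l, j))
    rw [hone, one_mul, prodTuple_idx, prodTuple_idx, hw.1, hw'.1, mul_one, mul_one] at this
    exact this.symm
  have hww : w = w' := funext fun l => by
    have := hrel (idx a b (i, l))
    rw [hone, one_mul, prodTuple_idx, prodTuple_idx, hv.1, hv'.1, one_mul, one_mul] at this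
    exact this.symm
  apply pullback.hom_ext
  · rw [hv.2, hv'.2, hvv]
  · rw [hw.2, hw'.2, hww]

variable (S : Scheme.{u})

/-- `P^a_S ×_S P^b_S ⟶ P^a_ℤ × P^b_ℤ`. -/
def toPP : pullback (CohB1.ProjSpaceOver.toBase a S) (CohB1.ProjSpaceOver.toBase b S) ⟶ PP.{u} a b :=
  pullback.lift (pullback.fst _ _ ≫ pullback.fst _ _) (pullback.snd _ _ ≫ pullback.fst _ _)
    (specULiftZIsTerminal.hom_ext _ _)

/-- The Segre morphism over `S`. -/
def segreOver : pullback (CohB1.ProjSpaceOver.toBase a S) (CohB1.ProjSpaceOver.toBase b S) ⟶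
    CohB1.ProjSpaceOver (a * b + a + b) S :=
  pullback.lift (toPP a b S ≫ segre a b) (pullback.fst _ _ ≫ CohB1.ProjSpaceOver.toBase a S)
    (specULiftZIsTerminal.hom_ext _ _)

theorem segreOver_toBase : segreOver a b S ≫ CohB1.ProjSpaceOver.toBase (a * b + a + b) S =
    pullback.fst _ _ ≫ CohB1.ProjSpaceOver.toBase a S :=
  pullback.lift_snd _ _ _

theorem segreOver_fst : segreOver a b S ≫ pullback.fst _ _ = toPP a b S ≫ segre a b :=
  pullback.lift_fst _ _ _

instance isClosedImmersion_segreOver : IsClosedImmersion (segreOver a b S) := by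
  have := ProjSpace.BaseChange.isProper_toBase a S
  have := ProjSpace.BaseChange.isProper_toBase b S
  have := ProjSpace.BaseChange.isProper_toBase (a * b + a + b) S
  rw [IsClosedImmersion.iff_isProper_and_mono]
  refine ⟨?_, ⟨fun {T} g g' h => ?_⟩⟩
  · have : IsProper (pullback.fst (CohB1.ProjSpaceOver.toBase a S) (CohB1.ProjSpaceOver.toBase b S)) :=
      MorphismProperty.pullback_fst _ _ inferInstance
    have : IsProper (segreOver a b S ≫ CohB1.ProjSpaceOver.toBase (a * b + a + b) S) := by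
      rw [segreOver_toBase]; infer_instance
    exact IsProper.of_comp _ (CohB1.ProjSpaceOver.toBase (a * b + a + b) S)
  · have h1 : g ≫ toPP a b S = g' ≫ toPP a b S := by
      rw [← cancel_mono (segre.{u} a b), Category.assoc, Category.assoc, ← segreOver_fst, reassoc_of% h]
    have h2 : g ≫ pullback.fst _ _ ≫ CohB1.ProjSpaceOver.toBase a S =
        g' ≫ pullback.fst _ _ ≫ CohB1.ProjSpaceOver.toBase a S := by
      rw [← segreOver_toBase, reassoc_of% h]
    have ef : toPP a b S ≫ pullback.fst _ _ = pullback.fst _ _ ≫ pullback.fst _ _ := pullback.lift_fst _ _ _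
    have eg : toPP a b S ≫ pullback.snd _ _ = pullback.snd _ _ ≫ pullback.fst _ _ := pullback.lift_snd _ _ _
    have h3 : g ≫ pullback.snd _ _ ≫ CohB1.ProjSpaceOver.toBase b S =
        g' ≫ pullback.snd _ _ ≫ CohB1.ProjSpaceOver.toBase b S := by rw [← pullback.condition]; exact h2
    apply pullback.hom_ext <;> apply pullback.hom_ext
    · exact (Category.assoc ..).trans (((congrArg (g ≫ ·) ef.symm).trans
        ((Category.assoc ..).symm.trans ((congrArg (· ≫ pullback.fst _ _) h1).trans ((Category.assoc ..).trans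
        (congrArg (g' ≫ ·) ef))))).trans (Category.assoc ..).symm)
    · exact (Category.assoc ..).trans (h2.trans (Category.assoc ..).symm)
    · exact (Category.assoc ..).trans (((congrArg (g ≫ ·) eg.symm).trans
        ((Category.assoc ..).symm.trans ((congrArg (· ≫ pullback.snd _ _) h1).trans ((Category.assoc ..).trans
        (congrArg (g' ≫ ·) eg))))).trans (Category.assoc ..).symm)
    · exact (Category.assoc ..).trans (h3.trans (Category.assoc ..).symm)

end Groth.Agent.Lib.Chow.Segre
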