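import Groth.Agent.Lib.Chow.Core
import Groth.Agent.Lib.Chow.Embed
import Groth.Agent.Lib.Chow.Segre
import Mathlib.Topology.NoetherianSpace

/-!
# Chow's lemma

`chow_open` : a modification that is an isomorphism over a given adapted open; `exists_dense_adapted`,
`exists_nonempty_adapted` : such opens exist; `chow` : Chow's lemma for finitely many irreducible components.
-/

noncomputable section

universe u

open CategoryTheory CategoryTheory.Limits AlgebraicGeometry TopologicalSpace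

namespace Groth.Agent.Lib.Chow.Main

open Groth.Agent.Lib.ProjSpace PointMap

/-- The extension of an embedded piece to `U`, by the section at infinity away from the piece. -/
theorem exists_extend {X S : Scheme.{u}} (f : X ⟶ S) (U Ui : X.Opens) (hadapt : ∀ y ∈ U, y ∈ Ui ∨ y ∉ closure (Ui : Set X))
    (m : ℕ) (O : (CohB1.ProjSpaceOver (m + 1) S).Opens) (c : (Ui : Scheme.{u}) ⟶ (O : Scheme.{u}))
    (hc : c ≫ O.ι ≫ CohB1.ProjSpaceOver.toBase (m + 1) S = Ui.ι ≫ f)
    (hO : ∀ (W : Scheme.{u}) (g : W ⟶ S), Embed.ptInfty m g ⁻¹ᵁ O = ⊥) :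
    ∃ k : (U : Scheme.{u}) ⟶ CohB1.ProjSpaceOver (m + 1) S,
      k ≫ CohB1.ProjSpaceOver.toBase (m + 1) S = U.ι ≫ f ∧ k ⁻¹ᵁ O = U.ι ⁻¹ᵁ Ui ∧
        (U.ι ∣_ Ui) ≫ c ≫ O.ι = (U.ι ⁻¹ᵁ Ui).ι ≫ k := by
  let ext : X.Opens := ⟨(closure (Ui : Set X))ᶜ, isClosed_closure.isOpen_compl⟩
  let P : Bool → (U : Scheme.{u}).Opens := fun b => cond b (U.ι ⁻¹ᵁ Ui) (U.ι ⁻¹ᵁ ext)
  have hP : TopologicalSpace.IsOpenCover P := by
    refine top_le_iff.1 fun y _ => ?_
    rcases hadapt (U.ι y) y.2 with h | h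
    · exact Opens.mem_iSup.2 ⟨true, h⟩
    · exact Opens.mem_iSup.2 ⟨false, h⟩
  let 𝒰 := (U : Scheme.{u}).openCoverOfIsOpenCover P hP
  let k' : ∀ b : Bool, (P b : Scheme.{u}) ⟶ CohB1.ProjSpaceOver (m + 1) S := fun b =>
    match b with
    | true => (U.ι ∣_ Ui) ≫ c ≫ O.ι
    | false => Embed.ptInfty m ((U.ι ⁻¹ᵁ ext).ι ≫ U.ι ≫ f)
  have hdisj : ∀ x : (U : Scheme.{u}), x ∈ P true → x ∈ P false → False := fun x h1 h2 => h2 (subset_closure h1)
  have hglue : ∀ b b' : 𝒰.I₀, pullback.fst (𝒰.f b) (𝒰.f b') ≫ k' b = pullback.snd (𝒰.f b) (𝒰.f b') ≫ k' b' := by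
    intro b b'
    by_cases h : b = b'
    · subst h
      have : pullback.fst (𝒰.f b) (𝒰.f b) = pullback.snd (𝒰.f b) (𝒰.f b) := by
        rw [← cancel_mono (𝒰.f b)]; exact pullback.condition
      rw [this]
    · haveI : IsEmpty ↑(pullback (𝒰.f b) (𝒰.f b')) := ⟨fun z => by
        have e := congrArg (fun φ => φ z) (pullback.condition (f := 𝒰.f b) (g := 𝒰.f b'))
        simp only [Scheme.Hom.comp_apply] at e
        have h1 : 𝒰.f b (pullback.fst (𝒰.f b) (𝒰.f b') z) ∈ P b := (pullback.fst (𝒰.f b) (𝒰.f b') z).2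
        have h2 : 𝒰.f b (pullback.fst (𝒰.f b) (𝒰.f b') z) ∈ P b' := by
          rw [e]; exact (pullback.snd (𝒰.f b) (𝒰.f b') z).2
        rcases b with _ | _ <;> rcases b' with _ | _
        · exact h rfl
        · exact hdisj _ h2 h1
        · exact hdisj _ h1 h2
        · exact h rfl⟩
      exact isInitialOfIsEmpty.hom_ext _ _
  let k := 𝒰.glueMorphisms k' hglue
  have hk : ∀ b, 𝒰.f b ≫ k = k' b := 𝒰.ι_glueMorphisms k' hglue
  refine ⟨k, ?_, ?_, (hk true).symm⟩
  · refine Scheme.Cover.hom_ext 𝒰 _ _ fun b => ?_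
    rw [reassoc_of% hk b]
    cases b
    · exact Embed.ptInfty_toBase m _
    · show ((U.ι ∣_ Ui) ≫ c ≫ O.ι) ≫ CohB1.ProjSpaceOver.toBase (m + 1) S = (U.ι ⁻¹ᵁ Ui).ι ≫ U.ι ≫ f
      rw [Category.assoc, Category.assoc, hc, morphismRestrict_ι_assoc]
  · ext y
    show k y ∈ O ↔ U.ι y ∈ Ui
    constructor
    · intro hy
      rcases hadapt (U.ι y) y.2 with h | h
      · exact h
      · have e := congrArg (fun φ => φ (⟨y, h⟩ : (P false : Scheme.{u}))) (hk false)
        simp only [Scheme.Hom.comp_apply] at e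
        have h3 : (⟨y, h⟩ : (P false : Scheme.{u})) ∈
            Embed.ptInfty m ((U.ι ⁻¹ᵁ ext).ι ≫ U.ι ≫ f) ⁻¹ᵁ O := by
          show k' false (⟨y, h⟩ : (P false : Scheme.{u})) ∈ O
          exact e.subst (motive := fun w => w ∈ O) hy
        rw [hO] at h3
        exact h3.elim
    · intro hy
      have e := congrArg (fun φ => φ (⟨y, hy⟩ : (P true : Scheme.{u}))) (hk true)
      simp only [Scheme.Hom.comp_apply] at e
      have : k' true (⟨y, hy⟩ : (P true : Scheme.{u})) ∈ O := (c ((U.ι ∣_ Ui) ⟨y, hy⟩)).2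
      exact e.symm.subst (motive := fun w => w ∈ O) this

/-- Finitely many morphisms to projective spaces have a product inside one projective space. -/
theorem exists_prod {U S : Scheme.{u}} (g : U ⟶ S) : ∀ (r : ℕ) (n : Fin r → ℕ)
    (k : ∀ i, U ⟶ CohB1.ProjSpaceOver (n i) S), (∀ i, k i ≫ CohB1.ProjSpaceOver.toBase (n i) S = g) →
    ∃ (N : ℕ) (P : Scheme.{u}) (e : P ⟶ CohB1.ProjSpaceOver N S), IsClosedImmersion e ∧
      ∃ (φ : U ⟶ P) (p : ∀ i, P ⟶ CohB1.ProjSpaceOver (n i) S), φ ≫ e ≫ CohB1.ProjSpaceOver.toBase N S = g ∧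
        (∀ i, p i ≫ CohB1.ProjSpaceOver.toBase (n i) S = e ≫ CohB1.ProjSpaceOver.toBase N S) ∧
        ∀ i, φ ≫ p i = k i := by
  intro r
  induction r with
  | zero =>
    intro n k _
    refine ⟨0, _, 𝟙 _, inferInstance, pullback.lift (chartPt 0 fun _ => 1) g (specULiftZIsTerminal.hom_ext _ _),
      fun i => i.elim0, ?_, fun i => i.elim0, fun i => i.elim0⟩
    rw [Category.id_comp]
    exact pullback.lift_snd _ _ _
  | succ r ih =>
    intro n k hk
    obtain ⟨N, P, e, he, φ, p, hφ, hp, hφp⟩ := ih (fun i => n i.succ) (fun i => k i.succ) fun i => hk i.succ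
    haveI := he
    let R := pullback (e ≫ CohB1.ProjSpaceOver.toBase N S) (CohB1.ProjSpaceOver.toBase (n 0) S)
    let μ : R ⟶ pullback (CohB1.ProjSpaceOver.toBase N S) (CohB1.ProjSpaceOver.toBase (n 0) S) :=
      pullback.map _ _ _ _ e (𝟙 _) (𝟙 _) (Category.comp_id _) ((Category.comp_id _).trans (Category.id_comp _).symm)
    haveI : IsClosedImmersion μ := by
      have := BaseChange.isProper_toBase N S
      have := BaseChange.isProper_toBase (n 0) S
      have e1 : μ ≫ pullback.fst _ _ = pullback.fst _ _ ≫ e := pullback.lift_fst _ _ _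
      have e2 : μ ≫ pullback.snd _ _ = pullback.snd _ _ := (pullback.lift_snd _ _ _).trans (Category.comp_id _)
      rw [IsClosedImmersion.iff_isProper_and_mono]
      refine ⟨?_, ⟨fun {W} a a' h => ?_⟩⟩
      · have : IsProper (pullback.fst (CohB1.ProjSpaceOver.toBase N S) (CohB1.ProjSpaceOver.toBase (n 0) S)) :=
          MorphismProperty.pullback_fst _ _ inferInstance
        have : IsProper (pullback.fst (e ≫ CohB1.ProjSpaceOver.toBase N S) (CohB1.ProjSpaceOver.toBase (n 0) S)) :=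
          MorphismProperty.pullback_fst _ _ inferInstance
        have : IsProper (μ ≫ pullback.fst _ _ ≫ CohB1.ProjSpaceOver.toBase N S) := by
          rw [← Category.assoc, e1, Category.assoc]; infer_instance
        exact IsProper.of_comp μ (pullback.fst _ _ ≫ CohB1.ProjSpaceOver.toBase N S)
      · apply pullback.hom_ext
        · rw [← cancel_mono e, Category.assoc, Category.assoc, ← e1, reassoc_of% h]
        · rw [← e2, reassoc_of% h]
    let e' : R ⟶ CohB1.ProjSpaceOver (N * n 0 + N + n 0) S := μ ≫ Segre.segreOver N (n 0) S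
    have he' : e' ≫ CohB1.ProjSpaceOver.toBase _ S = pullback.fst _ _ ≫ e ≫ CohB1.ProjSpaceOver.toBase N S := by
      simp only [e', Category.assoc, Segre.segreOver_toBase]
      exact pullback.lift_fst_assoc _ _ _ _ |>.trans (Category.assoc _ _ _)
    let φ' : U ⟶ R := pullback.lift φ (k 0) (hφ.trans (hk 0).symm)
    let p' : ∀ i, R ⟶ CohB1.ProjSpaceOver (n i) S :=
      Fin.cases (pullback.snd _ _) fun i => pullback.fst _ _ ≫ p i
    refine ⟨_, R, e', inferInstanceAs (IsClosedImmersion (μ ≫ _)), φ', p', ?_, fun i => ?_, fun i => ?_⟩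
    · rw [he', ← Category.assoc, pullback.lift_fst, hφ]
    · rw [he']
      refine Fin.cases ?_ (fun j => ?_) i
      · exact pullback.condition.symm
      · show (pullback.fst _ _ ≫ p j) ≫ _ = _
        rw [Category.assoc, hp]
    · refine Fin.cases ?_ (fun j => ?_) i
      · exact pullback.lift_snd _ _ _
      · show φ' ≫ pullback.fst _ _ ≫ p j = _
        rw [← Category.assoc, pullback.lift_fst, hφp]

/-- A finite affine cover of `X` over affine opens of `S`. -/
theorem exists_cover {X S : Scheme.{u}} (f : X ⟶ S) [CompactSpace X] :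
    ∃ (r : ℕ) (V : Fin r → X.Opens) (T : Fin r → S.Opens),
      (∀ i, IsAffineOpen (V i) ∧ IsAffineOpen (T i) ∧ V i ≤ f ⁻¹ᵁ T i) ∧ ⨆ i, V i = ⊤ := by
  have h : ∀ x : X, ∃ (V : X.Opens) (T : S.Opens), IsAffineOpen V ∧ IsAffineOpen T ∧ V ≤ f ⁻¹ᵁ T ∧ x ∈ V := by
    intro x
    obtain ⟨T, hT, hx, -⟩ := Opens.isBasis_iff_nbhd.1 S.isBasis_affineOpens (Opens.mem_top (f x))
    obtain ⟨V, hV, hxV, hle⟩ := Opens.isBasis_iff_nbhd.1 X.isBasis_affineOpens (show x ∈ f ⁻¹ᵁ T from hx)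
    exact ⟨V, T, hV, hT, hle, hxV⟩
  choose V T hV hT hle hx using h
  obtain ⟨s, hs⟩ := isCompact_univ.elim_finite_subcover (fun x => (V x : Set X)) (fun x => (V x).2)
    fun x _ => Set.mem_iUnion.2 ⟨x, hx x⟩
  refine ⟨s.card, fun i => V (s.equivFin.symm i), fun i => T (s.equivFin.symm i),
    fun i => ⟨hV _, hT _, hle _⟩, top_le_iff.1 fun x _ => ?_⟩
  obtain ⟨y, hy, hxy⟩ := Set.mem_iUnion₂.1 (hs (Set.mem_univ x))
  exact Opens.mem_iSup.2 ⟨s.equivFin ⟨y, hy⟩, by simpa using hxy⟩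

/-- `U` is adapted to the cover: it meets the boundary of no piece. -/
def Adapted {X : Scheme.{u}} {r : ℕ} (V : Fin r → X.Opens) (U : X.Opens) : Prop :=
  ∀ i, ∀ y ∈ U, y ∈ V i ∨ y ∉ closure (V i : Set X)

theorem chow_open {X S : Scheme.{u}} (f : X ⟶ S) [IsSeparated f] [LocallyOfFiniteType f] [QuasiSeparatedSpace X]
    {r : ℕ} (V : Fin r → X.Opens) (T : Fin r → S.Opens)
    (hVT : ∀ i, IsAffineOpen (V i) ∧ IsAffineOpen (T i) ∧ V i ≤ f ⁻¹ᵁ T i) (hcov : ⨆ i, V i = ⊤)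
    (U : X.Opens) [CompactSpace (U : Scheme.{u})] (hU : Adapted V U) :
    ∃ (n : ℕ) (X' : Scheme.{u}) (π : X' ⟶ X) (j : X' ⟶ CohB1.ProjSpaceOver n S),
      IsImmersion j ∧ j ≫ CohB1.ProjSpaceOver.toBase n S = π ≫ f ∧ IsProper π ∧
        (Dense (U : Set X) → Surjective π) ∧ IsIso (π ∣_ U) ∧ Dense ((π ⁻¹ᵁ U : X'.Opens) : Set X') ∧
        (AlgebraicGeometry.IsReduced (U : Scheme.{u}) → AlgebraicGeometry.IsReduced X') := by
  choose m O c hci hc hO using fun i => Embed.exists_embed f (V i) (hVT i).1 (T i) (hVT i).2.1 (hVT i).2.2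
  choose k hk hpre hagree using fun i => exists_extend f U (V i) (hU i) (m i) (O i) (c i) (hc i) (hO i)
  obtain ⟨N, P, e, he, φ, p, hφ, hp, hφp⟩ := exists_prod (U.ι ≫ f) r (fun i => m i + 1) k hk
  haveI := he
  haveI := hci
  obtain ⟨X', π, j, h⟩ := Core.core f U (fun i => m i + 1) V hcov O c hc k hpre hagree N e φ hφ p hp hφp
  exact ⟨N, X', π, j, h⟩

theorem exists_dense_adapted {X : Scheme.{u}} (hirr : (irreducibleComponents (X : Type u)).Finite)
    {r : ℕ} (V : Fin r → X.Opens) :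
    ∃ U : X.Opens, CompactSpace (U : Scheme.{u}) ∧ Adapted V U ∧ Dense (U : Set X) := by
  classical
  let G : X.Opens := ⨅ i, V i ⊔ ⟨(closure (V i : Set X))ᶜ, isClosed_closure.isOpen_compl⟩
  have hG : ∀ y, y ∈ G ↔ ∀ i, y ∈ V i ∨ y ∉ closure (V i : Set X) := fun y => by
    show y ∈ ((G : X.Opens) : Set X) ↔ _
    rw [show ((G : X.Opens) : Set X) = ⋂ i, (V i : Set X) ∪ (closure (V i : Set X))ᶜ by simp [G, Opens.coe_iInf]]
    simp
  have hgen : ∀ Z ∈ irreducibleComponents (X : Type u), ∃ η ∈ G, closure {η} = Z := by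
    intro Z hZ
    obtain ⟨η, hη⟩ := QuasiSober.sober hZ.1 (isClosed_of_mem_irreducibleComponents Z hZ)
    refine ⟨η, (hG η).2 fun i => or_iff_not_imp_right.2 fun hi => ?_, hη.def⟩
    rw [not_not] at hi
    let N : Set X := (⋃₀ (irreducibleComponents (X : Type u) \ {Z}))ᶜ
    have hN : IsOpen N := by
      refine IsClosed.isOpen_compl (self := ?_)
      rw [Set.sUnion_eq_biUnion]
      exact Set.Finite.isClosed_biUnion (hirr.subset Set.sdiff_subset) fun W hW =>
        isClosed_of_mem_irreducibleComponents W hW.1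
    have hηN : η ∈ N := by
      rintro ⟨W, ⟨hW, hWZ⟩, hηW⟩
      have hle : Z ⊆ W := by
        rw [← hη.def]
        exact closure_minimal (Set.singleton_subset_iff.2 hηW) (isClosed_of_mem_irreducibleComponents W hW)
      exact hWZ (subset_antisymm (hZ.2 hW.1 hle) hle)
    obtain ⟨y, hyN, hyV⟩ := mem_closure_iff.1 hi N hN hηN
    have hyZ : y ∈ Z := by
      obtain ⟨W, hW, hyW⟩ := exists_mem_irreducibleComponents_subset_of_isIrreducible {y} isIrreducible_singleton
      by_contra h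
      exact hyN ⟨W, ⟨hW, fun hWZ => h (hWZ ▸ hyW rfl)⟩, hyW rfl⟩
    exact (hη.specializes hyZ).mem_open (V i).2 hyV
  choose η hηG hη using hgen
  have haff : ∀ Z : irreducibleComponents (X : Type u), ∃ W : X.Opens, IsAffineOpen W ∧ η Z Z.2 ∈ W ∧ W ≤ G := by
    intro Z
    obtain ⟨W, hW, hx, hle⟩ := Opens.isBasis_iff_nbhd.1 X.isBasis_affineOpens (hηG Z Z.2)
    exact ⟨W, hW, hx, hle⟩
  choose W hW hηW hWG using haff
  refine ⟨⨆ Z, W Z, ?_, fun i y hy => ?_, ?_⟩
  · haveI := hirr.to_subtype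
    refine isCompact_iff_compactSpace.1 ?_
    rw [Opens.coe_iSup]
    exact isCompact_iUnion fun Z => (hW Z).isCompact
  · exact (hG y).1 ((iSup_le hWG) hy) i
  · intro x
    obtain ⟨Z, hZ, hxZ⟩ := exists_mem_irreducibleComponents_subset_of_isIrreducible {x} isIrreducible_singleton
    refine closure_mono (Set.singleton_subset_iff.2 ?_) ((hη Z hZ).ge (hxZ rfl))
    exact Opens.mem_iSup.2 ⟨⟨Z, hZ⟩, hηW ⟨Z, hZ⟩⟩

theorem chow {X S : Scheme.{u}} (f : X ⟶ S) [CompactSpace S] [QuasiSeparatedSpace S] [IsSeparated f]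
    [LocallyOfFiniteType f] [QuasiCompact f] (hirr : (irreducibleComponents (X : Type u)).Finite) :
    ∃ (n : ℕ) (X' : Scheme.{u}) (π : X' ⟶ X) (j : X' ⟶ CohB1.ProjSpaceOver n S) (U : X.Opens),
      IsImmersion j ∧ j ≫ CohB1.ProjSpaceOver.toBase n S = π ≫ f ∧ IsProper π ∧ Surjective π ∧
        Dense (U : Set X) ∧ IsIso (π ∣_ U) ∧ Dense ((π ⁻¹ᵁ U : X'.Opens) : Set X') ∧
        (AlgebraicGeometry.IsReduced (U : Scheme.{u}) → AlgebraicGeometry.IsReduced X') := by
  haveI : CompactSpace X := QuasiCompact.compactSpace_of_compactSpace f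
  haveI : QuasiSeparatedSpace X := quasiSeparatedSpace_of_quasiSeparated f
  obtain ⟨r, V, T, hVT, hcov⟩ := exists_cover f
  obtain ⟨U, hUc, hU, hUd⟩ := exists_dense_adapted hirr V
  haveI := hUc
  obtain ⟨n, X', π, j, h1, h2, h3, h4, h5, h6, h7⟩ := chow_open f V T hVT hcov U hU
  exact ⟨n, X', π, j, U, h1, h2, h3, h4 hUd, hUd, h5, h6, h7⟩

end Groth.Agent.Lib.Chow.Main
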