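import Groth.Agent.Lib.ProjSpace.BaseChange

/-!
# Points of projective space over `ℤ` in standard charts

A morphism `T ⟶ P^n_ℤ` through the chart `k` is a ring map `AwayX k →+* Γ(T, ⊤)`, i.e. a tuple `v` with `v k = 1`.
Two tuples in charts `k`, `k'` give the same point iff `v' l = v' k * v l` for all `l`.
-/

noncomputable section

universe u

open CategoryTheory CategoryTheory.Limits AlgebraicGeometry MvPolynomial HomogeneousLocalization TopologicalSpace

namespace Groth.Agent.Lib.Chow.PointMap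

open Groth.Agent.Lib.ProjSpace.Charts Groth.Agent.Lib.ProjSpace.Basic

/-- `ℤ`, in universe `u`. -/
abbrev Z : Type u := ULift.{u} ℤ

theorem ringHom_ext_Z {B : Type*} [CommRing B] (φ ψ : Z.{u} →+* B) : φ = ψ := by
  refine RingHom.ext fun a => ?_
  rcases a with ⟨a⟩
  have h := RingHom.ext_int (φ.comp ULift.ringEquiv.{0, u}.symm.toRingHom)
    (ψ.comp ULift.ringEquiv.{0, u}.symm.toRingHom)
  exact DFunLike.congr_fun h a

variable {n : ℕ}

section Algebra

variable {B : Type*} [CommRing B]

theorem awayHom_ext {k : Fin (n + 1)} {φ ψ : AwayX Z.{u} k →+* B}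
    (h : ∀ l, φ (coord Z.{u} k l) = ψ (coord Z.{u} k l)) : φ = ψ := by
  have : φ.comp (awayEquiv Z.{u} k).toRingHom = ψ.comp (awayEquiv Z.{u} k).toRingHom := by
    refine MvPolynomial.ringHom_ext' (ringHom_ext_Z _ _) fun j => ?_
    simpa using h j.1
  refine RingHom.ext fun a => ?_
  obtain ⟨p, rfl⟩ := (awayEquiv Z.{u} k).surjective a
  exact DFunLike.congr_fun this p

/-- The ring map of the point with coordinates `v` in the chart `k`. -/
def ptHom (k : Fin (n + 1)) (v : Fin (n + 1) → B) : AwayX Z.{u} k →+* B :=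
  (eval₂Hom ((Int.castRingHom B).comp ULift.ringEquiv.{0, u}.toRingHom) fun j => v j.1).comp
    (awayEquiv Z.{u} k).symm.toRingHom

theorem ptHom_coord {k : Fin (n + 1)} {v : Fin (n + 1) → B} (hv : v k = 1) (l : Fin (n + 1)) :
    ptHom.{u} k v (coord Z.{u} k l) = v l := by
  by_cases h : l = k
  · subst h
    rw [coord_self, map_one, hv]
  · have h1 : coord Z.{u} k l = awayEquiv Z.{u} k (X ⟨l, h⟩) := (awayEquiv_X k ⟨l, h⟩).symm
    rw [h1]
    show eval₂Hom _ _ ((awayEquiv Z.{u} k).symm (awayEquiv Z.{u} k (X ⟨l, h⟩))) = v l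
    rw [RingEquiv.symm_apply_apply, eval₂Hom_X']

theorem eq_ptHom {k : Fin (n + 1)} (φ : AwayX Z.{u} k →+* B) :
    φ = ptHom k fun l => φ (coord Z.{u} k l) :=
  awayHom_ext fun l => by rw [ptHom_coord (by rw [coord_self, map_one])]

variable (R : Type u) [CommRing R]

/-- `AwayX k → R[T]_(T_k T_k')`. -/
def awayLeft (k k' : Fin (n + 1)) :
    AwayX R k →+* HomogeneousLocalization.Away (CohB1.polyGrading n R)
      (X k * X k' : MvPolynomial (Fin (n + 1)) R) :=
  awayMap (CohB1.polyGrading n R) (X_mem_one k') rfl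

/-- `AwayX k' → R[T]_(T_k T_k')`. -/
def awayRight (k k' : Fin (n + 1)) :
    AwayX R k' →+* HomogeneousLocalization.Away (CohB1.polyGrading n R)
      (X k * X k' : MvPolynomial (Fin (n + 1)) R) :=
  awayMap (CohB1.polyGrading n R) (X_mem_one k) (mul_comm _ _)

theorem algebraMap_mul_val_awayLeft (k k' l : Fin (n + 1)) :
    algebraMap (MvPolynomial (Fin (n + 1)) R) (Localization.Away (X k * X k' : MvPolynomial (Fin (n + 1)) R))
        (X k) * (awayLeft R k k' (coord R k l)).val = algebraMap _ _ (X l : MvPolynomial (Fin (n + 1)) R) := by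
  rw [awayLeft, val_awayMap]
  have h := congrArg (IsLocalization.Away.awayToAwayRight (X k : MvPolynomial (Fin (n + 1)) R) (X k')
    (P := Localization.Away (X k * X k' : MvPolynomial (Fin (n + 1)) R))) (algebraMap_X_mul_val_coord (R := R) k l)
  rw [map_mul, IsLocalization.Away.awayToAwayRight_eq, IsLocalization.Away.awayToAwayRight_eq] at h
  exact h

theorem algebraMap_mul_val_awayRight (k k' l : Fin (n + 1)) :
    algebraMap (MvPolynomial (Fin (n + 1)) R) (Localization.Away (X k * X k' : MvPolynomial (Fin (n + 1)) R))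
        (X k') * (awayRight R k k' (coord R k' l)).val = algebraMap _ _ (X l : MvPolynomial (Fin (n + 1)) R) := by
  rw [awayRight, val_awayMap]
  have h := congrArg (IsLocalization.Away.awayToAwayLeft (X k' : MvPolynomial (Fin (n + 1)) R) (X k)
    (P := Localization.Away (X k * X k' : MvPolynomial (Fin (n + 1)) R))) (algebraMap_X_mul_val_coord (R := R) k' l)
  rw [map_mul, IsLocalization.Away.awayToAwayLeft_eq, IsLocalization.Away.awayToAwayLeft_eq] at h
  exact h

/-- The transition formula. -/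
theorem coord_transition (k k' l : Fin (n + 1)) :
    awayRight R k k' (coord R k' l) =
      awayRight R k k' (coord R k' k) * awayLeft R k k' (coord R k l) := by
  apply HomogeneousLocalization.val_injective
  have hu : IsUnit (algebraMap (MvPolynomial (Fin (n + 1)) R)
      (Localization.Away (X k * X k' : MvPolynomial (Fin (n + 1)) R)) (X k')) :=
    isUnit_of_dvd_unit (map_dvd _ (dvd_mul_left _ _))
      (IsLocalization.Away.algebraMap_isUnit (X k * X k' : MvPolynomial (Fin (n + 1)) R))
  refine hu.mul_left_cancel ?_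
  rw [HomogeneousLocalization.val_mul, ← mul_assoc, algebraMap_mul_val_awayRight,
    algebraMap_mul_val_awayRight, algebraMap_mul_val_awayLeft]

/-- A compatible pair of tuples comes from `R[T]_(T_k T_k')`. -/
theorem exists_awayBoth {B : Type u} [CommRing B] {k k' : Fin (n + 1)} {v v' : Fin (n + 1) → B}
    (hv : v k = 1) (hv' : v' k' = 1) (h : ∀ l, v' l = v' k * v l) :
    ∃ ψ : HomogeneousLocalization.Away (CohB1.polyGrading n Z.{u})
        (X k * X k' : MvPolynomial (Fin (n + 1)) Z.{u}) →+* B,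
      ψ.comp (awayLeft Z.{u} k k') = ptHom k v ∧ ψ.comp (awayRight Z.{u} k k') = ptHom k' v' := by
  let := (awayLeft Z.{u} k k').toAlgebra
  let s := Away.isLocalizationElem (𝒜 := CohB1.polyGrading n Z.{u}) (X_mem_one k) (X_mem_one k')
  have : IsLocalization.Away s (HomogeneousLocalization.Away (CohB1.polyGrading n Z.{u})
      (X k * X k' : MvPolynomial (Fin (n + 1)) Z.{u})) :=
    Away.isLocalization_mul (X_mem_one k) (X_mem_one k') rfl one_ne_zero
  have hs : s = coord Z.{u} k k' := by
    apply HomogeneousLocalization.val_injective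
    simp [s, Away.isLocalizationElem, val_coord]
  have h1 : v' k * v k' = 1 := (h k').symm.trans hv'
  have hu : IsUnit (ptHom.{u} k v s) := by
    rw [hs, ptHom_coord hv]
    exact IsUnit.of_mul_eq_one_right _ h1
  refine ⟨IsLocalization.Away.lift s hu, IsLocalization.Away.lift_comp s hu, ?_⟩
  have hl : ∀ l, IsLocalization.Away.lift s hu (awayLeft Z.{u} k k' (coord Z.{u} k l)) = v l := fun l => by
    rw [← ptHom_coord hv l]
    exact IsLocalization.Away.lift_eq s hu _
  refine awayHom_ext fun l => ?_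
  rw [RingHom.comp_apply, ptHom_coord hv', coord_transition, map_mul, hl, h l]
  congr 1
  have h2 := congrArg (IsLocalization.Away.lift s hu) (coord_transition Z.{u} k k' k')
  rw [coord_self, map_one, map_one, map_mul, hl] at h2
  calc IsLocalization.Away.lift s hu (awayRight Z.{u} k k' (coord Z.{u} k' k))
      = IsLocalization.Away.lift s hu (awayRight Z.{u} k k' (coord Z.{u} k' k)) * (v' k * v k') := by
        rw [h1, mul_one]
    _ = v' k * 1 := by rw [h2]; ring
    _ = v' k := mul_one _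

end Algebra

/-! ### Scheme level -/

/-- The morphism to an affine scheme of a ring map into global sections. -/
def toSpecHom {T : Scheme.{u}} {R : Type u} [CommRing R] (φ : R →+* Γ(T, ⊤)) :
    T ⟶ Spec (CommRingCat.of R) :=
  T.toSpecΓ ≫ Spec.map (CommRingCat.ofHom φ)

/-- The ring map of a morphism to an affine scheme. -/
def homOf {T : Scheme.{u}} {R : Type u} [CommRing R] (g : T ⟶ Spec (CommRingCat.of R)) : R →+* Γ(T, ⊤) :=
  ((Scheme.ΓSpecIso (CommRingCat.of R)).inv ≫ g.appTop).hom

theorem toSpecHom_homOf {T : Scheme.{u}} {R : Type u} [CommRing R] (g : T ⟶ Spec (CommRingCat.of R)) :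
    toSpecHom (homOf g) = g := by
  rw [toSpecHom, homOf, CommRingCat.ofHom_hom, Spec.map_comp, ← Category.assoc, ← Scheme.toSpecΓ_naturality,
    Category.assoc, ← SpecMap_ΓSpecIso_hom, ← Spec.map_comp]
  simp

theorem homOf_toSpecHom {T : Scheme.{u}} {R : Type u} [CommRing R] (φ : R →+* Γ(T, ⊤)) :
    homOf (toSpecHom φ) = φ := by
  have : (Scheme.ΓSpecIso (CommRingCat.of R)).inv ≫ (toSpecHom φ).appTop = CommRingCat.ofHom φ := by
    rw [toSpecHom, Scheme.Hom.comp_appTop, ← Scheme.ΓSpecIso_inv_naturality_assoc, Scheme.toSpecΓ_appTop]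
    simp
  rw [homOf, this]
  rfl

theorem toSpecHom_injective {T : Scheme.{u}} {R : Type u} [CommRing R] {φ ψ : R →+* Γ(T, ⊤)}
    (h : toSpecHom φ = toSpecHom ψ) : φ = ψ := by
  rw [← homOf_toSpecHom φ, h, homOf_toSpecHom]

@[reassoc]
theorem comp_toSpecHom {T T' : Scheme.{u}} (h : T' ⟶ T) {R : Type u} [CommRing R] (φ : R →+* Γ(T, ⊤)) :
    h ≫ toSpecHom φ = toSpecHom (h.appTop.hom.comp φ) := by
  rw [toSpecHom, toSpecHom, ← Category.assoc, Scheme.toSpecΓ_naturality, Category.assoc, ← Spec.map_comp]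
  rfl

@[reassoc]
theorem toSpecHom_specMap {T : Scheme.{u}} {R R' : Type u} [CommRing R] [CommRing R'] (φ : R →+* Γ(T, ⊤))
    (α : R' →+* R) : toSpecHom φ ≫ Spec.map (CommRingCat.ofHom α) = toSpecHom (φ.comp α) := by
  rw [toSpecHom, toSpecHom, Category.assoc, ← Spec.map_comp]
  rfl

/-- The point with coordinates `v` in the chart `k`. -/
def chartPt {T : Scheme.{u}} (k : Fin (n + 1)) (v : Fin (n + 1) → Γ(T, ⊤)) : T ⟶ CohB1.ProjSpace n Z.{u} :=
  toSpecHom (ptHom k v) ≫ awayχ Z.{u} k

theorem chartPt_eq_iff {T : Scheme.{u}} {k k' : Fin (n + 1)} {v v' : Fin (n + 1) → Γ(T, ⊤)}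
    (hv : v k = 1) (hv' : v' k' = 1) :
    chartPt k v = chartPt k' v' ↔ ∀ l, v' l = v' k * v l := by
  let x : MvPolynomial (Fin (n + 1)) Z.{u} := X k * X k'
  have eL : Spec.map (CommRingCat.ofHom (awayLeft Z.{u} k k')) ≫ awayχ Z.{u} k =
      Proj.awayι (CohB1.polyGrading n Z.{u}) x (SetLike.mul_mem_graded (X_mem_one k) (X_mem_one k')) two_pos :=
    Proj.SpecMap_awayMap_awayι _ (X_mem_one k) one_pos (X_mem_one k') rfl
  have eR : Spec.map (CommRingCat.ofHom (awayRight Z.{u} k k')) ≫ awayχ Z.{u} k' =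
      Proj.awayι (CohB1.polyGrading n Z.{u}) x (SetLike.mul_mem_graded (X_mem_one k) (X_mem_one k')) two_pos :=
    Proj.SpecMap_awayMap_awayι _ (X_mem_one k') one_pos (X_mem_one k) (mul_comm _ _)
  constructor
  · intro h
    let I := Proj.pullbackAwayιIso (CohB1.polyGrading n Z.{u}) (X_mem_one k) one_pos (X_mem_one k') one_pos
      (x := x) rfl
    let p : T ⟶ Spec (CommRingCat.of (HomogeneousLocalization.Away (CohB1.polyGrading n Z.{u}) x)) :=
      pullback.lift (toSpecHom (ptHom k v)) (toSpecHom (ptHom k' v')) h ≫ I.hom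
    have hl : p ≫ Spec.map (CommRingCat.ofHom (awayLeft Z.{u} k k')) = toSpecHom (ptHom k v) := by
      show (_ ≫ I.hom) ≫ _ = _
      rw [Category.assoc]
      exact (congrArg (_ ≫ ·) (Proj.pullbackAwayιIso_hom_SpecMap_awayMap_left _ _ _ _ _ _)).trans
        (pullback.lift_fst _ _ _)
    have hr : p ≫ Spec.map (CommRingCat.ofHom (awayRight Z.{u} k k')) = toSpecHom (ptHom k' v') := by
      show (_ ≫ I.hom) ≫ _ = _
      rw [Category.assoc]
      exact (congrArg (_ ≫ ·) (Proj.pullbackAwayιIso_hom_SpecMap_awayMap_right _ _ _ _ _ _)).trans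
        (pullback.lift_snd _ _ _)
    rw [← toSpecHom_homOf p, toSpecHom_specMap] at hl hr
    have hl' := toSpecHom_injective hl
    have hr' := toSpecHom_injective hr
    intro l
    have e := congrArg (homOf p) (coord_transition Z.{u} k k' l)
    rw [map_mul, ← RingHom.comp_apply, ← RingHom.comp_apply, ← RingHom.comp_apply, hl', hr', ptHom_coord hv,
      ptHom_coord hv', ptHom_coord hv'] at e
    exact e
  · intro h
    obtain ⟨ψ, hL, hR⟩ := exists_awayBoth hv hv' h
    rw [chartPt, chartPt, ← hL, ← hR, ← toSpecHom_specMap, ← toSpecHom_specMap, Category.assoc, Category.assoc,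
      eL, eR]

/-- The preimage of `D_+(T_l)` in the chart `k`. -/
theorem awayχ_preimage_basicOpen (k l : Fin (n + 1)) :
    awayχ Z.{u} k ⁻¹ᵁ Proj.basicOpen (CohB1.polyGrading n Z.{u}) (X l) =
      PrimeSpectrum.basicOpen (coord Z.{u} k l) := by
  have hs : Away.isLocalizationElem (𝒜 := CohB1.polyGrading n Z.{u}) (X_mem_one k) (X_mem_one l) =
      coord Z.{u} k l := by
    apply HomogeneousLocalization.val_injective
    simp [Away.isLocalizationElem, val_coord]
  rw [← hs]
  exact Proj.awayι_preimage_basicOpen _ (X_mem_one k) one_pos (X_mem_one l) one_pos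

theorem chartPt_preimage_basicOpen {T : Scheme.{u}} {k : Fin (n + 1)} {v : Fin (n + 1) → Γ(T, ⊤)}
    (hv : v k = 1) (l : Fin (n + 1)) :
    chartPt k v ⁻¹ᵁ Proj.basicOpen (CohB1.polyGrading n Z.{u}) (X l) = T.basicOpen (v l) := by
  rw [chartPt, Scheme.Hom.comp_preimage, awayχ_preimage_basicOpen, toSpecHom, Scheme.Hom.comp_preimage]
  change T.toSpecΓ ⁻¹ᵁ PrimeSpectrum.basicOpen (ptHom k v (coord Z.{u} k l)) = _
  rw [ptHom_coord hv]
  exact T.toSpecΓ_preimage_basicOpen (v l)

end Groth.Agent.Lib.Chow.PointMap
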