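import Groth.Agent.Lib.Chow.Main
import Groth.Agent.Lib.HProj.Main
import Groth.Agent.Lib.HProj.QuasiProj
import Groth.Agent.Lib.HProj.Proper

/-!
# Chow's lemma with projective modification
-/

noncomputable section

universe u

open CategoryTheory CategoryTheory.Limits AlgebraicGeometry TopologicalSpace

namespace Groth.Agent.Lib.Chow.Projective

variable {X' X S : Scheme.{u}}

theorem isHProjective_of_immersion (f : X ⟶ S) {n : ℕ} (π : X' ⟶ X) (j : X' ⟶ CohB1.ProjSpaceOver n S)
    [IsImmersion j] (hj : j ≫ CohB1.ProjSpaceOver.toBase n S = π ≫ f) [IsProper π] :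
    RelProj.IsHProjective π := by
  haveI := ProjSpace.BaseChange.isProper_toBase n X
  let H := ProjSpace.BaseChange.isPullback_overMap n f
  let c : X' ⟶ CohB1.ProjSpaceOver n X := H.lift j π hj
  have h1 : c ≫ ProjSpace.BaseChange.overMap n f = j := H.lift_fst _ _ _
  have h2 : c ≫ CohB1.ProjSpaceOver.toBase n X = π := H.lift_snd _ _ _
  haveI : IsImmersion (c ≫ ProjSpace.BaseChange.overMap n f) := by rw [h1]; infer_instance
  haveI : IsImmersion c := IsImmersion.of_comp c (ProjSpace.BaseChange.overMap n f)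
  haveI : IsProper (c ≫ CohB1.ProjSpaceOver.toBase n X) := by rw [h2]; infer_instance
  haveI : IsProper c := IsProper.of_comp c (CohB1.ProjSpaceOver.toBase n X)
  exact ⟨n, c, (IsClosedImmersion.iff_isProper_and_mono c).2 ⟨inferInstance, inferInstance⟩, h2⟩

theorem isProjective_modification (f : X ⟶ S) {n : ℕ} (π : X' ⟶ X) (j : X' ⟶ CohB1.ProjSpaceOver n S)
    [IsImmersion j] (hj : j ≫ CohB1.ProjSpaceOver.toBase n S = π ≫ f) [IsProper π] : RelProj.IsProjective π :=
  HProj.isProjective_of_isHProjective π (isHProjective_of_immersion f π j hj)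

theorem isHProjective_comp (f : X ⟶ S) [IsProper f] {n : ℕ} (π : X' ⟶ X) (j : X' ⟶ CohB1.ProjSpaceOver n S)
    [IsImmersion j] (hj : j ≫ CohB1.ProjSpaceOver.toBase n S = π ≫ f) [IsProper π] :
    RelProj.IsHProjective (π ≫ f) := by
  haveI := ProjSpace.BaseChange.isProper_toBase n S
  haveI : IsProper (j ≫ CohB1.ProjSpaceOver.toBase n S) := by rw [hj]; infer_instance
  haveI : IsProper j := IsProper.of_comp j (CohB1.ProjSpaceOver.toBase n S)
  exact ⟨n, j, (IsClosedImmersion.iff_isProper_and_mono j).2 ⟨inferInstance, inferInstance⟩, hj⟩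

theorem isQuasiProjective_comp (f : X ⟶ S) [LocallyOfFiniteType f] [QuasiCompact f] {n : ℕ} (π : X' ⟶ X)
    (j : X' ⟶ CohB1.ProjSpaceOver n S) [IsImmersion j] (hj : j ≫ CohB1.ProjSpaceOver.toBase n S = π ≫ f)
    [IsProper π] : RelProj.IsQuasiProjective (π ≫ f) :=
  HProj.QuasiProj.isQuasiProjective_of_immersion (π ≫ f) n j hj

/-- A modification with dense isomorphism locus of an irreducible space is irreducible. -/
theorem irreducibleSpace_modification (π : X' ⟶ X) (U : X.Opens) [IsIso (π ∣_ U)]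
    (hd : Dense ((π ⁻¹ᵁ U : X'.Opens) : Set X')) (hU : Dense (U : Set X)) [IrreducibleSpace X] :
    IrreducibleSpace X' := by
  have hne : (U : Set X).Nonempty := hU.nonempty
  have hirrU : IsIrreducible (U : Set X) :=
    ⟨hne, PreirreducibleSpace.isPreirreducible_univ.open_subset U.2 (Set.subset_univ _)⟩
  haveI : IrreducibleSpace (U : Scheme.{u}) := (isIrreducible_iff_irreducibleSpace).1 hirrU
  let φ : (U : Scheme.{u}) ⟶ X' := inv (π ∣_ U) ≫ (π ⁻¹ᵁ U).ι
  have hr : Set.range φ = ((π ⁻¹ᵁ U : X'.Opens) : Set X') := by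
    rw [← Scheme.Hom.coe_opensRange, Scheme.Hom.opensRange_comp_of_isIso, Scheme.Opens.opensRange_ι]
  have h1 : IsIrreducible ((π ⁻¹ᵁ U : X'.Opens) : Set X') := by
    rw [← hr, ← Set.image_univ]
    exact (IrreducibleSpace.isIrreducible_univ _).image φ φ.continuous.continuousOn
  have h2 := h1.closure
  rw [hd.closure_eq] at h2
  exact (irreducibleSpace_def X').2 h2

theorem finite_irreducibleComponents {X S : Scheme.{u}} (f : X ⟶ S) [IsNoetherian S] [LocallyOfFiniteType f]
    [QuasiCompact f] : (irreducibleComponents (X : Type u)).Finite := by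
  haveI : IsLocallyNoetherian X := LocallyOfFiniteType.isLocallyNoetherian f
  haveI : CompactSpace X := QuasiCompact.compactSpace_of_compactSpace f
  haveI : IsNoetherian X := ⟨⟩
  exact TopologicalSpace.NoetherianSpace.finite_irreducibleComponents

/-- Chow's lemma, projective form. -/
theorem chow {X S : Scheme.{u}} (r : X ⟶ S) [IsSeparated r] [LocallyOfFiniteType r] [QuasiCompact r]
    (h : IsNoetherian S ∨ (CompactSpace S ∧ S.IsSeparated ∧ (irreducibleComponents X).Finite)) :
    ∃ (n : ℕ) (X' : Scheme.{u}) (π : X' ⟶ X) (j : X' ⟶ CohB1.ProjSpaceOver n S) (U : X.Opens),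
      IsImmersion j ∧ j ≫ CohB1.ProjSpaceOver.toBase n S = π ≫ r ∧ IsProper π ∧ Surjective π ∧
        Dense (U : Set X) ∧ IsIso (π ∣_ U) ∧ Dense ((π ⁻¹ᵁ U : X'.Opens) : Set X') ∧
        (AlgebraicGeometry.IsReduced (U : Scheme.{u}) → AlgebraicGeometry.IsReduced X') := by
  rcases h with hN | ⟨hc, hs, hfin⟩
  · haveI := hN
    exact Main.chow r (finite_irreducibleComponents r)
  · haveI := hc
    haveI := hs
    exact Main.chow r hfin

end Groth.Agent.Lib.Chow.Projective
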