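import Groth.Agent.Lib.ProjSpace.BaseChange
import Mathlib.AlgebraicGeometry.IdealSheaf.Subscheme
import Mathlib.AlgebraicGeometry.Morphisms.Proper
import Mathlib.AlgebraicGeometry.Morphisms.Immersion
import Mathlib.AlgebraicGeometry.Morphisms.IsIso

/-!
# Chow lemma: the core construction

From a finite open cover `U i` of `X` with closed immersions `c i : U i ⟶ O i` into opens of `P^{n i}_S`, morphisms
`k i` on a dense quasi-compact open `U` extending them, and their product `φ : U ⟶ P` inside some `P^N_S`, the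
scheme-theoretic image of `U` in `P ×_S X` is immersed in `P^N_S`, proper and surjective over `X`, isomorphic over `U`.
-/

noncomputable section

universe u

open CategoryTheory CategoryTheory.Limits AlgebraicGeometry TopologicalSpace

namespace Groth.Agent.Lib.Chow.Core

/-- The scheme-theoretic image restricted to an open lies in every closed subscheme of that open through which the
morphism factors. -/
theorem exists_lift_imageι {U Z C : Scheme.{u}} (ψ : U ⟶ Z) [QuasiCompact ψ] (O : Z.Opens)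
    (c : C ⟶ (O : Scheme.{u})) [IsClosedImmersion c] (s : ((ψ ⁻¹ᵁ O : U.Opens) : Scheme.{u}) ⟶ C)
    (h : s ≫ c = ψ ∣_ O) : ∃ t, t ≫ c = ψ.imageι ∣_ O := by
  have hle : c.ker ≤ (ψ.imageι ∣_ O).ker := by
    have heq : (ψ.imageι ∣_ O).ker = (ψ ∣_ O).ker := by
      refine Scheme.IdealSheafData.ext (funext fun V => ?_)
      rw [Scheme.ker_morphismRestrict_ideal, Scheme.ker_morphismRestrict_ideal]
      exact congrArg (fun I : Z.IdealSheafData => I.ideal _) ψ.ker.ker_subschemeι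
    rw [heq, ← h]
    exact Scheme.Hom.le_ker_comp s c
  exact ⟨IsClosedImmersion.lift c _ hle, IsClosedImmersion.lift_fac c _ hle⟩

theorem isReduced_image {U Z : Scheme.{u}} (ψ : U ⟶ Z) [QuasiCompact ψ] [AlgebraicGeometry.IsReduced U] :
    AlgebraicGeometry.IsReduced ψ.image := by
  have h : ∀ W : Z.affineOpens, AlgebraicGeometry.IsReduced ((ψ.imageι ⁻¹ᵁ W.1 : ψ.image.Opens) : Scheme.{u}) := by
    intro W
    haveI : IsAffineHom ψ.imageι := inferInstance
    haveI : IsAffine ((ψ.imageι ⁻¹ᵁ W.1 : ψ.image.Opens) : Scheme.{u}) := W.2.preimage ψ.imageι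
    haveI : _root_.IsReduced Γ(ψ.image, ψ.imageι ⁻¹ᵁ W.1) :=
      isReduced_of_injective (ψ.toImage.app _).hom (ψ.toImage_app_injective W)
    haveI : _root_.IsReduced Γ((ψ.imageι ⁻¹ᵁ W.1 : ψ.image.Opens), ⊤) :=
      isReduced_of_injective (Scheme.Opens.topIso (ψ.imageι ⁻¹ᵁ W.1)).hom.hom
        (ConcreteCategory.bijective_of_isIso (Scheme.Opens.topIso (ψ.imageι ⁻¹ᵁ W.1)).hom).1
    exact isReduced_of_isAffine_isReduced _
  let V : Z.affineOpens → ψ.image.Opens := fun W => ψ.imageι ⁻¹ᵁ W.1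
  have hV : TopologicalSpace.IsOpenCover V := by
    refine top_le_iff.1 fun x _ => ?_
    obtain ⟨W, hW, hx, -⟩ := Opens.isBasis_iff_nbhd.1 Z.isBasis_affineOpens (Opens.mem_top (ψ.imageι x))
    exact Opens.mem_iSup.2 ⟨⟨W, hW⟩, hx⟩
  haveI : ∀ i, AlgebraicGeometry.IsReduced ((ψ.image.openCoverOfIsOpenCover V hV).X i) := fun W => h W
  exact IsReduced.of_openCover _ (ψ.image.openCoverOfIsOpenCover V hV)

theorem core {X S P : Scheme.{u}} (f : X ⟶ S) [IsSeparated f] [QuasiSeparatedSpace X]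
    (U : X.Opens) [CompactSpace (U : Scheme.{u})]
    {ι : Type} (n : ι → ℕ) (Ui : ι → X.Opens) (hcov : ⨆ i, Ui i = ⊤)
    (O : ∀ i, (CohB1.ProjSpaceOver (n i) S).Opens)
    (c : ∀ i, (Ui i : Scheme.{u}) ⟶ (O i : Scheme.{u})) [∀ i, IsClosedImmersion (c i)]
    (hc : ∀ i, c i ≫ (O i).ι ≫ CohB1.ProjSpaceOver.toBase (n i) S = (Ui i).ι ≫ f)
    (k : ∀ i, (U : Scheme.{u}) ⟶ CohB1.ProjSpaceOver (n i) S)
    (hpre : ∀ i, k i ⁻¹ᵁ O i = U.ι ⁻¹ᵁ Ui i)
    (hagree : ∀ i, (U.ι ∣_ Ui i) ≫ c i ≫ (O i).ι = (U.ι ⁻¹ᵁ Ui i).ι ≫ k i)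
    (N : ℕ) (e : P ⟶ CohB1.ProjSpaceOver N S) [IsClosedImmersion e]
    (φ : (U : Scheme.{u}) ⟶ P) (hφ : φ ≫ e ≫ CohB1.ProjSpaceOver.toBase N S = U.ι ≫ f)
    (p : ∀ i, P ⟶ CohB1.ProjSpaceOver (n i) S)
    (hp : ∀ i, p i ≫ CohB1.ProjSpaceOver.toBase (n i) S = e ≫ CohB1.ProjSpaceOver.toBase N S)
    (hφp : ∀ i, φ ≫ p i = k i) :
    ∃ (X' : Scheme.{u}) (π : X' ⟶ X) (j : X' ⟶ CohB1.ProjSpaceOver N S),
      IsImmersion j ∧ j ≫ CohB1.ProjSpaceOver.toBase N S = π ≫ f ∧ IsProper π ∧ (Dense (U : Set X) → Surjective π) ∧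
        IsIso (π ∣_ U) ∧ Dense ((π ⁻¹ᵁ U : X'.Opens) : Set X') ∧
        (AlgebraicGeometry.IsReduced (U : Scheme.{u}) → AlgebraicGeometry.IsReduced X') := by
  haveI : IsProper (CohB1.ProjSpaceOver.toBase N S) := ProjSpace.BaseChange.isProper_toBase N S
  let b : P ⟶ S := e ≫ CohB1.ProjSpaceOver.toBase N S
  haveI : IsProper b := inferInstanceAs (IsProper (e ≫ _))
  haveI : IsProper (pullback.snd b f) := MorphismProperty.pullback_snd _ _ inferInstance
  haveI : IsSeparated (pullback.fst b f) := MorphismProperty.pullback_fst _ _ inferInstance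
  haveI : QuasiSeparatedSpace ↑(pullback b f) := quasiSeparatedSpace_of_quasiSeparated (pullback.snd b f)
  let ψ : (U : Scheme.{u}) ⟶ pullback b f := pullback.lift φ U.ι hφ
  haveI : QuasiCompact ψ := quasiCompact_of_compactSpace ψ
  have hψ1 : ψ ≫ pullback.fst b f = φ := pullback.lift_fst _ _ _
  have hψ2 : ψ ≫ pullback.snd b f = U.ι := pullback.lift_snd _ _ _
  haveI : IsClosedImmersion ψ.imageι := inferInstanceAs (IsClosedImmersion ψ.ker.subschemeι)
  let π : ψ.image ⟶ X := ψ.imageι ≫ pullback.snd b f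
  let q : ψ.image ⟶ P := ψ.imageι ≫ pullback.fst b f
  haveI hπ : IsProper π := inferInstanceAs (IsProper (ψ.imageι ≫ _))
  have hUπ : ψ.toImage ≫ π = U.ι := by simp [π, hψ2]
  have hsurj : Dense (U : Set X) → Surjective π := by
    intro hU
    refine ⟨fun x => ?_⟩
    have h1 : (U : Set X) ⊆ Set.range π := fun y hy => ⟨ψ.toImage ⟨y, hy⟩, by
      rw [← Scheme.Hom.comp_apply, hUπ]; rfl⟩
    have h2 : IsClosed (Set.range π) := π.isClosedMap.isClosed_range
    exact (h2.closure_subset_iff.2 h1) (hU x)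
  have hdense : Dense ((π ⁻¹ᵁ U : ψ.image.Opens) : Set ψ.image) := by
    refine (ψ.toImage.denseRange).mono ?_
    rintro _ ⟨y, rfl⟩
    change π (ψ.toImage y) ∈ U
    rw [← Scheme.Hom.comp_apply, hUπ]
    exact y.2
  -- isomorphism over `U`
  have hiso : IsIso (π ∣_ U) := by
    let O' : (pullback b f).Opens := pullback.snd b f ⁻¹ᵁ U
    have hrange : Set.range ψ ⊆ Set.range O'.ι := by
      rw [Scheme.Opens.range_ι]
      rintro _ ⟨y, rfl⟩
      change pullback.snd b f (ψ y) ∈ U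
      rw [← Scheme.Hom.comp_apply, hψ2]
      exact y.2
    let G : (U : Scheme.{u}) ⟶ (O' : Scheme.{u}) := IsOpenImmersion.lift O'.ι ψ hrange
    have hG : G ≫ O'.ι = ψ := IsOpenImmersion.lift_fac _ _ hrange
    have hGγ : G ≫ (pullback.snd b f ∣_ U) = 𝟙 _ := by
      rw [← cancel_mono U.ι, Category.assoc, morphismRestrict_ι, reassoc_of% hG, hψ2, Category.id_comp]
    haveI : IsClosedImmersion (G ≫ (pullback.snd b f ∣_ U)) := by rw [hGγ]; infer_instance
    haveI : IsSeparated (pullback.snd b f ∣_ U) :=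
      MorphismProperty.of_isPullback (P := @IsSeparated) (isPullback_morphismRestrict _ U).flip inferInstance
    haveI : IsClosedImmersion G := IsClosedImmersion.of_comp G (pullback.snd b f ∣_ U)
    let s := (ψ ⁻¹ᵁ O').ι
    have hsG : s ≫ G = ψ ∣_ O' := by
      rw [← cancel_mono O'.ι, Category.assoc, hG, morphismRestrict_ι]
    obtain ⟨t, ht⟩ := exists_lift_imageι ψ O' G s hsG
    have hπt : π ∣_ U = t := by
      show (ψ.imageι ≫ pullback.snd b f) ∣_ U = t
      rw [morphismRestrict_comp, ← ht, Category.assoc, hGγ, Category.comp_id]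
    have htop : ψ ⁻¹ᵁ O' = ⊤ := top_le_iff.1 fun y _ => by
      change pullback.snd b f (ψ y) ∈ U
      rw [← Scheme.Hom.comp_apply, hψ2]
      exact y.2
    have hsurjs : Function.Surjective s := fun y => ⟨⟨y, htop.ge trivial⟩, rfl⟩
    haveI : Surjective s := ⟨hsurjs⟩
    haveI : IsIso s := (isIso_iff_isOpenImmersion_and_surjective s).2 ⟨inferInstance, inferInstance⟩
    have hrange' : Set.range ψ.toImage ⊆ Set.range (ψ.imageι ⁻¹ᵁ O').ι := by
      rw [Scheme.Opens.range_ι]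
      rintro _ ⟨y, rfl⟩
      change ψ.imageι (ψ.toImage y) ∈ O'
      rw [← Scheme.Hom.comp_apply, Scheme.Hom.toImage_imageι]
      exact htop.ge trivial
    let v : (U : Scheme.{u}) ⟶ ((ψ.imageι ⁻¹ᵁ O' : ψ.image.Opens) : Scheme.{u}) :=
      IsOpenImmersion.lift _ ψ.toImage hrange'
    have hv : v ≫ (ψ.imageι ∣_ O') = G := by
      rw [← cancel_mono O'.ι, Category.assoc, morphismRestrict_ι, ← Category.assoc,
        IsOpenImmersion.lift_fac, Scheme.Hom.toImage_imageι, hG]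
    rw [hπt]
    refine ⟨v, ?_, ?_⟩
    · refine (cancel_mono (ψ.imageι ∣_ O')).1 ?_
      exact ((Category.assoc t v _).trans ((congrArg (t ≫ ·) hv).trans ht)).trans (Category.id_comp _).symm
    · refine (cancel_mono G).1 ?_
      exact ((Category.assoc v t G).trans ((congrArg (v ≫ ·) ht).trans hv)).trans (Category.id_comp G).symm
  -- `q` is an immersion
  haveI : ∀ i, IsProper (CohB1.ProjSpaceOver.toBase (n i) S) := fun i => ProjSpace.BaseChange.isProper_toBase _ S
  let Q : ι → P.Opens := fun i => p i ⁻¹ᵁ O i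
  have hclosed : ∀ i, IsClosedImmersion (q ∣_ Q i) := by
    intro i
    let g : (Q i : Scheme.{u}) ⟶ (O i : Scheme.{u}) := p i ∣_ O i
    let R := pullback g (c i)
    let O'' : (pullback b f).Opens := pullback.fst b f ⁻¹ᵁ Q i
    have hw : (pullback.fst g (c i) ≫ (Q i).ι) ≫ b = (pullback.snd g (c i) ≫ (Ui i).ι) ≫ f := by
      rw [Category.assoc, Category.assoc, ← hc i, ← pullback.condition_assoc]
      congr 1
      rw [show b = e ≫ CohB1.ProjSpaceOver.toBase N S from rfl, ← hp i, ← morphismRestrict_ι_assoc]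
    let r₀ : R ⟶ pullback b f := pullback.lift _ _ hw
    have hr₀ : Set.range r₀ ⊆ Set.range O''.ι := by
      rw [Scheme.Opens.range_ι]
      rintro _ ⟨y, rfl⟩
      change pullback.fst b f (r₀ y) ∈ Q i
      rw [← Scheme.Hom.comp_apply, pullback.lift_fst]
      exact (pullback.fst g (c i) y).2
    let r : R ⟶ (O'' : Scheme.{u}) := IsOpenImmersion.lift O''.ι r₀ hr₀
    have hr : r ≫ O''.ι = r₀ := IsOpenImmersion.lift_fac _ _ hr₀
    have hrγ : r ≫ (pullback.fst b f ∣_ Q i) = pullback.fst g (c i) := by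
      rw [← cancel_mono (Q i).ι, Category.assoc, morphismRestrict_ι, reassoc_of% hr, pullback.lift_fst]
    haveI : IsClosedImmersion (pullback.fst g (c i)) := MorphismProperty.pullback_fst _ _ inferInstance
    haveI : IsClosedImmersion (r ≫ (pullback.fst b f ∣_ Q i)) := by rw [hrγ]; infer_instance
    haveI : IsSeparated (pullback.fst b f ∣_ Q i) :=
      MorphismProperty.of_isPullback (P := @IsSeparated) (isPullback_morphismRestrict _ (Q i)).flip inferInstance
    haveI : IsClosedImmersion r := IsClosedImmersion.of_comp r (pullback.fst b f ∣_ Q i)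
    let D := ψ ⁻¹ᵁ O''
    have hD : D ≤ U.ι ⁻¹ᵁ Ui i := by
      intro y hy
      rw [← hpre i]
      change k i y ∈ O i
      rw [← hφp i, Scheme.Hom.comp_apply]
      have h1 : pullback.fst b f (ψ y) ∈ Q i := hy
      rw [← Scheme.Hom.comp_apply, hψ1] at h1
      exact h1
    let s₁ : (D : Scheme.{u}) ⟶ (Q i : Scheme.{u}) := (ψ ∣_ O'') ≫ (pullback.fst b f ∣_ Q i)
    let s₂ : (D : Scheme.{u}) ⟶ (Ui i : Scheme.{u}) := (U : Scheme.{u}).homOfLE hD ≫ (U.ι ∣_ Ui i)
    have hs₁ : s₁ ≫ (Q i).ι = D.ι ≫ φ := by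
      show ((ψ ∣_ O'') ≫ (pullback.fst b f ∣_ Q i)) ≫ (Q i).ι = D.ι ≫ φ
      rw [Category.assoc, morphismRestrict_ι, ← Category.assoc,
        show (ψ ∣_ O'') ≫ (pullback.fst b f ⁻¹ᵁ Q i).ι = D.ι ≫ ψ from morphismRestrict_ι ψ O'', Category.assoc, hψ1]
    have hs₂ : s₂ ≫ (Ui i).ι = D.ι ≫ U.ι := by
      simp [s₂]
    have hs : s₁ ≫ g = s₂ ≫ c i := by
      rw [← cancel_mono (O i).ι, Category.assoc, morphismRestrict_ι, ← Category.assoc, hs₁, Category.assoc, hφp,
        Category.assoc, show s₂ = (U : Scheme.{u}).homOfLE hD ≫ (U.ι ∣_ Ui i) from rfl, Category.assoc, hagree,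
        Scheme.homOfLE_ι_assoc]
    have hsr : pullback.lift s₁ s₂ hs ≫ r = ψ ∣_ O'' := by
      rw [← cancel_mono O''.ι, Category.assoc, hr, morphismRestrict_ι]
      apply pullback.hom_ext
      · rw [Category.assoc, Category.assoc, pullback.lift_fst, pullback.lift_fst_assoc, hs₁, hψ1]
      · rw [Category.assoc, Category.assoc, pullback.lift_snd, pullback.lift_snd_assoc, hs₂, hψ2]
    obtain ⟨t, ht⟩ := exists_lift_imageι ψ O'' r _ hsr
    haveI : IsClosedImmersion (ψ.imageι ∣_ O'') :=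
      MorphismProperty.of_isPullback (P := @IsClosedImmersion) (isPullback_morphismRestrict _ O'').flip inferInstance
    haveI : IsClosedImmersion (t ≫ r) := by rw [ht]; infer_instance
    haveI : IsClosedImmersion t := IsClosedImmersion.of_comp_isClosedImmersion t r
    haveI : IsClosedImmersion (t ≫ pullback.fst g (c i)) := MorphismProperty.comp_mem _ _ _ ‹IsClosedImmersion t›
      ‹IsClosedImmersion (pullback.fst g (c i))›
    rw [show q = ψ.imageι ≫ pullback.fst b f from rfl, morphismRestrict_comp, ← ht, Category.assoc, hrγ]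
    exact ‹IsClosedImmersion (t ≫ pullback.fst g (c i))›
  have hqrange : ∀ x, q x ∈ ⨆ i, Q i := by
    intro x
    obtain ⟨i, hi⟩ := Opens.mem_iSup.1 (hcov.ge (show π x ∈ (⊤ : X.Opens) from Opens.mem_top (π x)))
    refine Opens.mem_iSup.2 ⟨i, ?_⟩
    let O' : (pullback b f).Opens := pullback.snd b f ⁻¹ᵁ Ui i
    let a₁ : (O' : Scheme.{u}) ⟶ CohB1.ProjSpaceOver (n i) S := O'.ι ≫ pullback.fst b f ≫ p i
    let a₂ : (O' : Scheme.{u}) ⟶ CohB1.ProjSpaceOver (n i) S := (pullback.snd b f ∣_ Ui i) ≫ c i ≫ (O i).ι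
    have ha : a₁ ≫ CohB1.ProjSpaceOver.toBase (n i) S = a₂ ≫ CohB1.ProjSpaceOver.toBase (n i) S := by
      simp only [a₁, a₂, Category.assoc, hp i, hc i, morphismRestrict_ι_assoc]
      exact congrArg (O'.ι ≫ ·) pullback.condition
    let δ := pullback.diagonal (CohB1.ProjSpaceOver.toBase (n i) S)
    let A := pullback.lift a₁ a₂ ha
    haveI : IsClosedImmersion (pullback.fst A δ) := MorphismProperty.pullback_fst _ _ IsSeparated.isClosedImmersion_diagonal
    let D := ψ ⁻¹ᵁ O'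
    have hD : D = U.ι ⁻¹ᵁ Ui i := by
      change (ψ ≫ pullback.snd b f) ⁻¹ᵁ Ui i = _
      rw [hψ2]
    let s₂ : (D : Scheme.{u}) ⟶ CohB1.ProjSpaceOver (n i) S := D.ι ≫ k i
    have hs : (ψ ∣_ O') ≫ A = s₂ ≫ δ := by
      apply pullback.hom_ext
      · rw [Category.assoc, Category.assoc, pullback.lift_fst, pullback.diagonal_fst, Category.comp_id,
          morphismRestrict_ι_assoc, reassoc_of% hψ1, hφp]
      · rw [Category.assoc, Category.assoc, pullback.lift_snd, pullback.diagonal_snd, Category.comp_id]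
        have h2 : (ψ ∣_ O') ≫ (pullback.snd b f ∣_ Ui i) = ((U : Scheme.{u}).homOfLE hD.le) ≫ (U.ι ∣_ Ui i) := by
          rw [← cancel_mono (Ui i).ι, Category.assoc, morphismRestrict_ι, Category.assoc, morphismRestrict_ι,
            Scheme.homOfLE_ι_assoc, ← Category.assoc,
            show (ψ ∣_ O') ≫ (pullback.snd b f ⁻¹ᵁ Ui i).ι = D.ι ≫ ψ from morphismRestrict_ι ψ O', Category.assoc,
            hψ2]
        rw [reassoc_of% h2, hagree, Scheme.homOfLE_ι_assoc]
    obtain ⟨t, ht⟩ := exists_lift_imageι ψ O' (pullback.fst A δ) (pullback.lift _ _ hs) (pullback.lift_fst _ _ _)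
    have h3 : (ψ.imageι ∣_ O') ≫ a₁ = (ψ.imageι ∣_ O') ≫ a₂ := by
      have h4 : pullback.fst A δ ≫ a₁ = pullback.fst A δ ≫ a₂ := by
        have := pullback.condition (f := A) (g := δ)
        have e1 := congrArg (· ≫ pullback.fst _ _) this
        have e2 := congrArg (· ≫ pullback.snd _ _) this
        simp only [A, δ, Category.assoc, pullback.lift_fst, pullback.lift_snd, pullback.diagonal_fst,
          pullback.diagonal_snd, Category.comp_id] at e1 e2
        exact e1.trans e2.symm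
      rw [← ht, Category.assoc, Category.assoc, h4]
    have h5 := congrArg (fun φ => φ (⟨x, hi⟩ : (ψ.imageι ⁻¹ᵁ O' : ψ.image.Opens))) h3
    simp only [a₁, a₂, ← Category.assoc, morphismRestrict_ι] at h5
    simp only [Scheme.Hom.comp_apply] at h5
    change p i (pullback.fst b f (ψ.imageι x)) ∈ O i
    have h6 : ((O i).ι (c i ((pullback.snd b f ∣_ Ui i) ((ψ.imageι ∣_ O') ⟨x, hi⟩)))) ∈ O i := Subtype.prop _
    rw [← h5] at h6
    exact h6
  have hq : IsImmersion q := by
    let Ω := ⨆ i, Q i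
    have hr : Set.range q ⊆ Set.range Ω.ι := by
      rw [Scheme.Opens.range_ι]
      rintro _ ⟨x, rfl⟩
      exact hqrange x
    let q' := IsOpenImmersion.lift Ω.ι q hr
    have hq' : q' ≫ Ω.ι = q := IsOpenImmersion.lift_fac _ _ hr
    have : IsClosedImmersion q' := by
      refine IsZariskiLocalAtTarget.of_iSup_eq_top (P := @IsClosedImmersion) (fun i => Ω.ι ⁻¹ᵁ Q i)
        (top_le_iff.1 fun y _ => ?_) fun i => ?_
      · obtain ⟨i, hi⟩ := Opens.mem_iSup.1 y.2
        exact Opens.mem_iSup.2 ⟨i, hi⟩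
      · have hle : Q i ≤ Ω := le_iSup Q i
        haveI : IsIso (Ω.ι ∣_ Q i) := by
          haveI : Surjective (Ω.ι ∣_ Q i) := ⟨fun y => ⟨⟨⟨y.1, hle y.2⟩, y.2⟩, Subtype.ext (by
            show ((Ω.ι ∣_ Q i) ≫ (Q i).ι) _ = _
            rw [morphismRestrict_ι]; rfl)⟩⟩
          exact (isIso_iff_isOpenImmersion_and_surjective _).2 ⟨inferInstance, inferInstance⟩
        have h : (q' ∣_ (Ω.ι ⁻¹ᵁ Q i)) ≫ (Ω.ι ∣_ Q i) = (ψ.image.isoOfEq
            (show q' ⁻¹ᵁ Ω.ι ⁻¹ᵁ Q i = q ⁻¹ᵁ Q i by rw [← Scheme.Hom.comp_preimage, hq'])).hom ≫ (q ∣_ Q i) := by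
          rw [← cancel_mono (Q i).ι]
          simp [hq']
        haveI := hclosed i
        haveI : IsClosedImmersion ((q' ∣_ (Ω.ι ⁻¹ᵁ Q i)) ≫ (Ω.ι ∣_ Q i)) := by rw [h]; infer_instance
        exact IsClosedImmersion.of_comp_isClosedImmersion _ (Ω.ι ∣_ Q i)
    rw [← hq']
    infer_instance
  haveI := hq
  refine ⟨ψ.image, π, q ≫ e, inferInstance, ?_, hπ, hsurj, hiso, hdense, fun hred => ?_⟩
  · simp only [q, π, Category.assoc]
    exact congrArg (ψ.imageι ≫ ·) pullback.condition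
  · haveI := hred
    exact isReduced_image ψ

end Groth.Agent.Lib.Chow.Core
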